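import Mathlib

/-!
A few coloured elements of a finite abelian group are moved by every non-trivial injective endomorphism.
-/

set_option autoImplicit false

namespace Cfsg.Lib.SolvBase

variable {I : Type*} [CommGroup I] [Finite I]

/-- An irredundant family of generators. -/
theorem exists_irredundant (I : Type*) [CommGroup I] [Finite I] :
    ∃ (k : ℕ) (b : Fin k → I), Subgroup.closure (Set.range b) = ⊤ ∧
      Function.Injective (fun S : Finset (Fin k) => ∏ i ∈ S, b i) := by
  classical
  haveI := Fintype.ofFinite I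
  have hex : ∃ k, ∃ b : Fin k → I, Subgroup.closure (Set.range b) = ⊤ :=
    ⟨Fintype.card I, (Fintype.equivFin I).symm, by
      rw [Equiv.range_eq_univ, Subgroup.closure_univ]⟩
  obtain ⟨b, hb⟩ := Nat.find_spec hex
  refine ⟨_, b, hb, ?_⟩
  have key : ∀ S₁ S₂ : Finset (Fin (Nat.find hex)), ∏ i ∈ S₁, b i = ∏ i ∈ S₂, b i → S₁ ⊆ S₂ := by
    intro S₁ S₂ h x hx
    by_contra hx2
    rcases Nat.eq_zero_or_pos (Nat.find hex) with h0 | h0
    · exact absurd x.2 (by omega)
    refine Nat.find_min hex (m := Nat.find hex - 1) (by omega) ?_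
    have e : Nat.find hex - 1 + 1 = Nat.find hex := Nat.succ_pred_eq_of_pos h0
    let x' : Fin (Nat.find hex - 1 + 1) := Fin.cast e.symm x
    refine ⟨fun j => b (Fin.cast e (x'.succAbove j)), top_unique (hb.symm.le.trans ?_)⟩
    rw [Subgroup.closure_le]
    set H := Subgroup.closure (Set.range fun j => b (Fin.cast e (x'.succAbove j))) with hH
    have hoth : ∀ y, y ≠ x → b y ∈ H := by
      intro y hy
      obtain ⟨j, hj⟩ := Fin.exists_succAbove_eq (x := Fin.cast e.symm y) (y := x')
        (fun h => hy (Fin.cast_injective _ h))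
      exact Subgroup.subset_closure ⟨j, by simp [hj]⟩
    rintro _ ⟨y, rfl⟩
    by_cases hy : y = x
    · subst hy
      rw [← Finset.mul_prod_erase S₁ b hx] at h
      rw [eq_mul_inv_of_mul_eq h]
      exact mul_mem (prod_mem fun i hi => hoth i fun hi' => hx2 (hi' ▸ hi))
        (inv_mem (prod_mem fun i hi => hoth i (Finset.ne_of_mem_erase hi)))
    · exact hoth y hy
  exact fun S₁ S₂ h => Finset.Subset.antisymm (key S₁ S₂ h) (key S₂ S₁ h.symm)

/-- The supports of the second colour. -/
def supp (k : ℕ) (i : Fin k) : Finset (Fin k) :=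
  if (i : ℕ) + 1 < k then Finset.univ.filter fun j => (j : ℕ) = i ∨ (j : ℕ) = i + 1
  else Finset.univ.filter fun j => (j : ℕ) < 3

theorem mem_supp {k : ℕ} {i j : Fin k} : j ∈ supp k i ↔
    ((i : ℕ) + 1 < k ∧ ((j : ℕ) = i ∨ (j : ℕ) = i + 1)) ∨ (k ≤ (i : ℕ) + 1 ∧ (j : ℕ) < 3) := by
  unfold supp
  split_ifs with h
  · simp [h]
  · simp [h, Nat.not_lt.1 h]

theorem two_le_card_supp {k : ℕ} (hk : 4 ≤ k) (i : Fin k) : 2 ≤ (supp k i).card := by
  refine Finset.one_lt_card.2 ?_
  by_cases h : (i : ℕ) + 1 < k
  · refine ⟨i, mem_supp.2 (Or.inl ⟨h, Or.inl rfl⟩), ⟨i + 1, h⟩, mem_supp.2 (Or.inl ⟨h, Or.inr rfl⟩), ?_⟩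
    intro he
    have := congrArg Fin.val he
    simp at this
  · refine ⟨⟨0, by omega⟩, mem_supp.2 (Or.inr ⟨by omega, by simp⟩), ⟨1, by omega⟩,
      mem_supp.2 (Or.inr ⟨by omega, by simp⟩), ?_⟩
    intro he
    simpa using congrArg Fin.val he

/-- A permutation preserving the hypergraph is trivial. -/
theorem supp_rigid {k : ℕ} (hk : 4 ≤ k) (τ : Fin k → Fin k) (hτ : Function.Injective τ)
    (h : ∀ i, ∃ j, (supp k i).image τ = supp k j) : ∀ i, τ i = i := by
  classical
  have himg : ∀ i j, (supp k i).image τ = supp k j → ((i : ℕ) + 1 < k ↔ (j : ℕ) + 1 < k) := by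
    intro i j he
    have hc : (supp k i).card = (supp k j).card := by
      rw [← he, Finset.card_image_of_injective _ hτ]
    have h2 : ∀ l : Fin k, (l : ℕ) + 1 < k → (supp k l).card ≤ 2 := by
      intro l hl
      have hs : supp k l ⊆ {l, ⟨l + 1, hl⟩} := by
        intro a ha
        rcases mem_supp.1 ha with ⟨-, h | h⟩ | ⟨h, -⟩
        · simp [Fin.ext_iff, h]
        · simp [Fin.ext_iff, h]
        · omega
      exact (Finset.card_le_card hs).trans Finset.card_le_two
    have h3 : ∀ l : Fin k, k ≤ (l : ℕ) + 1 → 3 ≤ (supp k l).card := by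
      intro l hl
      have hs : ({⟨0, by omega⟩, ⟨1, by omega⟩, ⟨2, by omega⟩} : Finset (Fin k)) ⊆ supp k l := by
        intro a ha
        simp only [Finset.mem_insert, Finset.mem_singleton] at ha
        refine mem_supp.2 (Or.inr ⟨hl, ?_⟩)
        rcases ha with rfl | rfl | rfl <;> simp
      refine le_trans ?_ (Finset.card_le_card hs)
      simp
    constructor <;> intro hl <;> by_contra hl'
    · have := h2 i hl; have := h3 j (by omega); omega
    · have := h2 j hl; have := h3 i (by omega); omega
  have htri : ∀ i : Fin k, (i : ℕ) < 3 → ((τ i : Fin k) : ℕ) < 3 := by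
    intro i hi
    let last : Fin k := ⟨k - 1, by omega⟩
    have hlast : k ≤ (last : ℕ) + 1 := by simp [last]; omega
    obtain ⟨j, hj⟩ := h last
    have hj' : ¬ (j : ℕ) + 1 < k := fun hh => absurd ((himg last j hj).2 hh) (by omega)
    have hm : τ i ∈ supp k j := hj ▸ Finset.mem_image_of_mem τ (mem_supp.2 (Or.inr ⟨hlast, hi⟩))
    rcases mem_supp.1 hm with ⟨hh, -⟩ | ⟨-, hh⟩
    · exact absurd hh hj'
    · exact hh
  have htri' : ∀ i : Fin k, 3 ≤ (i : ℕ) → 3 ≤ ((τ i : Fin k) : ℕ) := by
    intro i hi
    by_contra hlt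
    let T : Finset (Fin k) := Finset.univ.filter fun l => (l : ℕ) < 3
    have hsub : T.image τ ⊆ T := by
      intro a ha
      obtain ⟨b, hb, rfl⟩ := Finset.mem_image.1 ha
      simp only [T, Finset.mem_filter, Finset.mem_univ, true_and] at hb ⊢
      exact htri b hb
    have heq : T.image τ = T := Finset.eq_of_subset_of_card_le hsub
      (by rw [Finset.card_image_of_injective _ hτ])
    obtain ⟨b, hb, hbi⟩ := Finset.mem_image.1 (heq.symm ▸ (by simp [T]; omega : τ i ∈ T) : τ i ∈ T.image τ)
    simp only [T, Finset.mem_filter, Finset.mem_univ, true_and] at hb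
    exact absurd (congrArg Fin.val (hτ hbi)) (by omega)
  have hadj : ∀ i j : Fin k, (j : ℕ) = i + 1 →
      ((τ j : Fin k) : ℕ) = τ i + 1 ∨ ((τ i : Fin k) : ℕ) = τ j + 1 := by
    intro i j hij
    have hi : (i : ℕ) + 1 < k := hij ▸ j.2
    obtain ⟨l, hl⟩ := h i
    have hl' := (himg i l hl).1 hi
    have h1 : τ i ∈ supp k l := hl ▸ Finset.mem_image_of_mem τ (mem_supp.2 (Or.inl ⟨hi, Or.inl rfl⟩))
    have h2 : τ j ∈ supp k l := hl ▸ Finset.mem_image_of_mem τ (mem_supp.2 (Or.inl ⟨hi, Or.inr hij⟩))
    have hne : ((τ i : Fin k) : ℕ) ≠ τ j := fun e => by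
      have := congrArg Fin.val (hτ (Fin.ext e))
      omega
    rcases mem_supp.1 h1 with ⟨-, a | a⟩ | ⟨a, -⟩ <;> rcases mem_supp.1 h2 with ⟨-, b | b⟩ | ⟨b, -⟩ <;>
      omega
  have hne : ∀ i j : Fin k, (i : ℕ) ≠ j → ((τ i : Fin k) : ℕ) ≠ τ j := fun i j hij e =>
    hij (congrArg Fin.val (hτ (Fin.ext e)))
  have main : ∀ m (hm : m < k), ((τ ⟨m, hm⟩ : Fin k) : ℕ) = m := by
    have e23 := hadj ⟨2, by omega⟩ ⟨3, by omega⟩ rfl
    have e12 := hadj ⟨1, by omega⟩ ⟨2, by omega⟩ rfl
    have a0 := htri ⟨0, by omega⟩ (by simp)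
    have a1 := htri ⟨1, by omega⟩ (by simp)
    have a2 := htri ⟨2, by omega⟩ (by simp)
    have a3 := htri' ⟨3, by omega⟩ (by simp)
    have n01 := hne ⟨0, by omega⟩ ⟨1, by omega⟩ (by simp)
    have n02 := hne ⟨0, by omega⟩ ⟨2, by omega⟩ (by simp)
    have n12 := hne ⟨1, by omega⟩ ⟨2, by omega⟩ (by simp)
    intro m
    induction m using Nat.strong_induction_on with
    | _ m ih =>
      intro hm
      by_cases hm4 : m < 4
      · interval_cases m <;> omega
      have e := hadj ⟨m - 1, by omega⟩ ⟨m, hm⟩ (by simp; omega)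
      have i1 := ih (m - 1) (by omega) (by omega)
      have i2 := ih (m - 2) (by omega) (by omega)
      have n2 := hne ⟨m, hm⟩ ⟨m - 2, by omega⟩ (by simp; omega)
      omega
  exact fun i => Fin.ext (main i.1 i.2)

theorem four_mul_le_two_pow : ∀ k : ℕ, 4 ≤ k → 4 * k ≤ 2 ^ k := by
  intro k hk
  induction k, hk using Nat.le_induction with
  | base => norm_num
  | succ k hk ih => rw [pow_succ]; omega

/-- A rigid colouring with few coloured elements. -/
theorem exists_rigid (I : Type*) [CommGroup I] [Fintype I] :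
    ∃ c : I → Fin 4, c 1 = 0 ∧
      (∀ π : I →* I, Function.Injective π → (∀ i, c i ≠ 0 → c (π i) = c i) → ∀ i, π i = i) ∧
      (Finset.univ.filter fun i => c i ≠ 0).card ≤ Nat.card I / 2 ∧
      (Nat.card I ≤ 2 → (Finset.univ.filter fun i => c i ≠ 0).card = 0) := by
  classical
  by_cases hn : Nat.card I ≤ 2
  · refine ⟨fun _ => 0, rfl, fun π hπ _ i => ?_, by simp, fun _ => by simp⟩
    by_cases hi : i = 1
    · rw [hi, map_one]
    by_contra hne
    have hπi : π i ≠ 1 := fun h => hi (hπ (h.trans (map_one π).symm))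
    have h3 : ({1, i, π i} : Finset I).card = 3 := by
      rw [Finset.card_insert_of_notMem (by simp [Ne.symm hi, Ne.symm hπi]),
        Finset.card_insert_of_notMem (by simpa using Ne.symm hne), Finset.card_singleton]
    have := Finset.card_le_univ ({1, i, π i} : Finset I)
    rw [h3, ← Nat.card_eq_fintype_card] at this
    omega
  obtain ⟨k, b, hgen, hind⟩ := exists_irredundant I
  have hpow : 2 ^ k ≤ Nat.card I := by
    have := Nat.card_le_card_of_injective _ hind
    rwa [Nat.card_eq_fintype_card, Fintype.card_finset, Fintype.card_fin] at this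
  have hb : Function.Injective b := fun i j h => by
    have := @hind {i} {j} (by simpa using h)
    simpa using this
  have hb1 : ∀ i, b i ≠ 1 := fun i h => by
    have := @hind {i} ∅ (by simpa using h)
    simp at this
  have hext : ∀ π : I →* I, (∀ j, π (b j) = b j) → ∀ i, π i = i := by
    intro π hπ i
    have h : Subgroup.closure (Set.range b) ≤ π.eqLocus (MonoidHom.id I) := by
      rw [Subgroup.closure_le]
      rintro _ ⟨j, rfl⟩
      exact hπ j
    exact h (hgen ▸ Subgroup.mem_top i)
  by_cases hk : k ≤ 3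
  · let c : I → Fin 4 := Function.extend b (fun j => ⟨(j : ℕ) + 1, by omega⟩) (fun _ => 0)
    have hcb : ∀ j, c (b j) = ⟨(j : ℕ) + 1, by omega⟩ := fun j => hb.extend_apply _ _ j
    have hc0 : ∀ i, (∀ j, b j ≠ i) → c i = 0 := fun i h =>
      Function.extend_apply' _ _ _ (by rintro ⟨j, hj⟩; exact h j hj)
    refine ⟨c, hc0 1 hb1, fun π hπ hcol => hext π fun j => ?_, ?_, fun h => absurd h hn⟩
    · have h := hcol (b j) (by rw [hcb]; simp [Fin.ext_iff])
      rw [hcb] at h
      by_contra hne
      by_cases he : ∃ l, b l = π (b j)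
      · obtain ⟨l, hl⟩ := he
        rw [← hl, hcb, Fin.ext_iff] at h
        exact hne (hl.symm.trans (congrArg b (Fin.ext (by simpa using h))))
      · push Not at he
        rw [hc0 _ he] at h
        simp [Fin.ext_iff] at h
    · have hsub : (Finset.univ.filter fun i => c i ≠ 0) ⊆ Finset.univ.image b := by
        intro i hi
        simp only [Finset.mem_filter, Finset.mem_univ, true_and] at hi
        simp only [Finset.mem_image, Finset.mem_univ, true_and]
        by_contra h
        push Not at h
        exact hi (hc0 i h)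
      refine (Finset.card_le_card hsub).trans (Finset.card_image_le.trans ?_)
      rw [Finset.card_univ, Fintype.card_fin, Nat.le_div_iff_mul_le (by norm_num : 0 < 2)]
      have h2k : ∀ m, m ≤ 3 → m * 2 ≤ 2 ^ m := fun m hm => by interval_cases m <;> norm_num
      exact (h2k k hk).trans hpow
  · have hk4 : 4 ≤ k := by omega
    let f : Fin k → I := fun i => ∏ l ∈ supp k i, b l
    have hfb : ∀ i j, f i ≠ b j := fun i j h => by
      have := @hind (supp k i) {j} (by simpa using h)
      have h2 := two_le_card_supp hk4 i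
      rw [this, Finset.card_singleton] at h2
      omega
    let c : I → Fin 4 := fun i => if (∃ j, b j = i) then 1 else if (∃ j, f j = i) then 2 else 0
    refine ⟨c, ?_, fun π hπ hcol => ?_, ?_, fun h => absurd h hn⟩
    · have h1 : ¬ ∃ j, b j = (1 : I) := fun ⟨j, hj⟩ => hb1 j hj
      have h2 : ¬ ∃ j, f j = (1 : I) := fun ⟨j, hj⟩ => by
        have := @hind (supp k j) ∅ (by simpa using hj)
        have h2 := two_le_card_supp hk4 j
        rw [this, Finset.card_empty] at h2
        omega
      simp only [c, if_neg h1, if_neg h2]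
    · have hT : ∀ j, ∃ l, b l = π (b j) := by
        intro j
        have hex : ∃ l, b l = b j := ⟨j, rfl⟩
        have h := hcol (b j) (by simp only [c, if_pos hex]; simp)
        by_contra hno
        simp only [c, if_pos hex, if_neg hno] at h
        split_ifs at h <;> simp at h
      choose τ hτ using hT
      have hτinj : Function.Injective τ := fun i j h => hb (hπ (by rw [← hτ, ← hτ, h]))
      have hU : ∀ i, ∃ j, (supp k i).image τ = supp k j := by
        intro i
        have hnb : ¬ ∃ j, b j = f i := fun ⟨j, hj⟩ => hfb i j hj.symm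
        have hex : ∃ j, f j = f i := ⟨i, rfl⟩
        have h := hcol (f i) (by simp only [c, if_neg hnb, if_pos hex]; simp)
        simp only [c, if_neg hnb, if_pos hex] at h
        by_cases h1 : ∃ j, b j = π (f i)
        · rw [if_pos h1] at h; simp at h
        by_cases h2 : ∃ j, f j = π (f i)
        · obtain ⟨j, hj⟩ := h2
          refine ⟨j, hind ?_⟩
          change ∏ l ∈ (supp k i).image τ, b l = f j
          rw [hj, Finset.prod_image fun x _ y _ e => hτinj e, map_prod]
          exact Finset.prod_congr rfl fun l _ => hτ l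
        · rw [if_neg h1, if_neg h2] at h; simp at h
      refine hext π fun j => ?_
      rw [← hτ, supp_rigid hk4 τ hτinj hU]
    · have hsub : (Finset.univ.filter fun i => c i ≠ 0) ⊆ Finset.univ.image b ∪ Finset.univ.image f := by
        intro i hi
        simp only [c, Finset.mem_filter, Finset.mem_univ, true_and] at hi
        simp only [Finset.mem_union, Finset.mem_image, Finset.mem_univ, true_and]
        split_ifs at hi with h1 h2
        · exact Or.inl h1
        · exact Or.inr h2
        · exact absurd rfl hi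
      have h1 := (Finset.card_le_card hsub).trans (Finset.card_union_le _ _)
      have h2 : (Finset.univ.image b).card ≤ k := Finset.card_image_le.trans (by simp)
      have h3 : (Finset.univ.image f).card ≤ k := Finset.card_image_le.trans (by simp)
      have h4 := four_mul_le_two_pow k hk4
      omega

end Cfsg.Lib.SolvBase
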