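import Cfsg.Agent.SolvBase.Frame
import Cfsg.Agent.SolvBase.Rigid

/-!
Regular triples read off a frame when the fixed space is small.
-/

set_option autoImplicit false
set_option linter.unusedSectionVars false

namespace Cfsg.Lib.SolvBase

open Cfsg.Lib.OddBase

universe u

variable {A : Type u} [Group A] [Finite A] [Group.IsSolvable A] {Z : Subgroup A} [Z.Normal]
  [IsMulCommutative Z] {K : Type u} [Field K] [Finite K] {V : Type u} [AddCommGroup V] [Finite V]
  [DistribMulAction A V] [Module K V] {σ : A →* RingAut K}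

/-- An element fixing a vector and a generating multiple of it is linear. -/
theorem aut_eq_id (hsemi : ∀ (g : A) (k : K) (v : V), g • (k • v) = σ g k • (g • v)) {θ : Kˣ}
    (hθ : ∀ x : Kˣ, x ∈ Subgroup.zpowers θ) {g : A} {v : V} (hv : v ≠ 0) (h1 : g • v = v)
    (h2 : g • ((θ : K) • v) = (θ : K) • v) : ∀ k : K, σ g k = k := by
  intro k
  rw [hsemi, h1] at h2
  have h3 : σ g (θ : K) = θ := smul_left_injective K hv h2
  by_cases hc : k = 0
  · rw [hc, map_zero]
  · obtain ⟨j, hj⟩ := Subgroup.mem_zpowers_iff.1 (hθ (Units.mk0 k hc))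
    have h4 : Units.map ((σ g : K ≃+* K).toMonoidHom) θ = θ := Units.ext h3
    have h5 := congrArg (Units.map ((σ g : K ≃+* K).toMonoidHom)) hj
    rw [map_zpow, h4, hj] at h5
    exact congrArg Units.val h5.symm

/-- A field of prime order has no automorphisms. -/
theorem aut_eq_id_of_prime (hQ : (Nat.card K).Prime) (g : A) (k : K) : σ g k = k := by
  haveI := Fact.mk hQ
  obtain ⟨i, rfl⟩ := mem_zmultiples_of_prime_card (p := Nat.card K) rfl (one_ne_zero (α := K)) (g' := k)
  change σ g (i • (1 : K)) = i • 1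
  rw [map_zsmul, map_one]

/-- A linear element fixing a basis fixes everything. -/
theorem fix_of_basis (hsemi : ∀ (g : A) (k : K) (v : V), g • (k • v) = σ g k • (g • v))
    {E : Submodule K V} {ι' : Type*} [Fintype ι'] (b : Module.Basis ι' K E) {g : A}
    (hlin : ∀ k : K, σ g k = k) (hb : ∀ i, g • (b i : V) = b i) : ∀ u ∈ E, g • u = u := by
  intro u hu
  have h := congrArg (fun x : E => (x : V)) (b.sum_repr ⟨u, hu⟩)
  simp only [Submodule.coe_sum, Submodule.coe_smul] at h
  rw [← h, Finset.smul_sum]
  exact Finset.sum_congr rfl fun i _ => by rw [hsemi, hlin, hb]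

/-- A basis starting with a given vector. -/
theorem exists_basis_first {E : Type*} [AddCommGroup E] [Module K E] [Module.Finite K E] {v : E}
    (hv : v ≠ 0) {d : ℕ} (hd : Module.finrank K E = d + 1) :
    ∃ b : Module.Basis (Fin (d + 1)) K E, b 0 = v := by
  classical
  have hli : LinearIndepOn K id ({v} : Set E) := LinearIndepOn.singleton (v := id) hv
  let b0 := Module.Basis.extend hli
  haveI : Fintype (hli.extend (Set.subset_univ _)) :=
    FiniteDimensional.fintypeBasisIndex b0
  have hc : Fintype.card (hli.extend (Set.subset_univ _)) = d + 1 :=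
    hd ▸ (Module.finrank_eq_card_basis b0).symm
  let e0 := Fintype.equivFinOfCardEq hc
  let j : hli.extend (Set.subset_univ _) := ⟨v, hli.subset_extend _ (Set.mem_singleton v)⟩
  refine ⟨b0.reindex (e0.trans (Equiv.swap (e0 j) 0)), ?_⟩
  rw [Module.Basis.reindex_apply, Equiv.symm_trans_apply, Equiv.symm_swap, Equiv.swap_apply_right,
    Equiv.symm_apply_apply, Module.Basis.extend_apply_self]

/-- A colouring with three values and slots for the other basis vectors. -/
theorem triple_of_values (F : Frame A Z K V) {c : F.I → Fin 4} (hc1 : c 1 = 0)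
    (hcr : ∀ π : F.I →* F.I, Function.Injective π → (∀ i, c i ≠ 0 → c (π i) = c i) → ∀ i, π i = i)
    (a₀ w₁ : F.E) (val : Fin 4 → F.E) (hval : ∀ a b, a ≠ 0 → b ≠ 0 → val a = val b → a = b)
    {d : ℕ} (extra : Fin d → F.E) (hd : d + 1 + (Finset.univ.filter fun i => c i ≠ 0).card ≤ Nat.card F.I)
    (hsep : ∀ a, a ≠ 0 → val a ≠ 0 ∧ ∀ j, val a ≠ extra j)
    (hfix : ∀ g : A, g • F.v₁ = F.v₁ → g • (a₀ : V) = a₀ → g • (w₁ : V) = w₁ →
      (∀ a, a ≠ 0 → g • (val a : V) = val a) ∧
        ((∀ j, g • (extra j : V) = extra j) → ∀ u ∈ F.E, g • u = u)) : Triple A V := by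
  classical
  let Sl := Finset.univ.filter fun i : F.I => i ≠ 1 ∧ c i = 0
  have hSl : d ≤ Sl.card := by
    have h1 : (Finset.univ : Finset F.I) ⊆ insert 1 (Sl ∪ Finset.univ.filter fun i => c i ≠ 0) := by
      intro i _
      by_cases hi : i = 1
      · simp [hi]
      · by_cases hci : c i = 0 <;> simp [Sl, hi, hci]
    have h2 := (Finset.card_le_card h1).trans (Finset.card_insert_le _ _)
    have h3 := Finset.card_union_le Sl (Finset.univ.filter fun i => c i ≠ 0)
    rw [Finset.card_univ, ← Nat.card_eq_fintype_card] at h2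
    omega
  let η : Fin d → F.I := fun j => (Sl.equivFin.symm (Fin.castLE hSl j) : F.I)
  have hη : Function.Injective η := fun i j h =>
    Fin.castLE_injective _ (Sl.equivFin.symm.injective (Subtype.ext h))
  have hηS : ∀ j, η j ≠ 1 ∧ c (η j) = 0 := fun j =>
    (Finset.mem_filter.1 (Sl.equivFin.symm (Fin.castLE hSl j)).2).2
  let z : F.I → F.E := fun i =>
    if i = 1 then w₁ else if c i = 0 then Function.extend η extra 0 i else val (c i)
  refine F.triple_of_colouring a₀ z (fun _ => true) (fun i _ h => absurd h (by simp)) ?_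
  intro g π hg ha hz1 hπ _ hgz
  simp only [z, if_true] at hz1
  obtain ⟨hfv, hfE⟩ := hfix g hg ha hz1
  have hπ1 : ∀ i, i ≠ 1 → π i ≠ 1 := fun i hi h => hi (hπ (h.trans (map_one π).symm))
  have hid : ∀ i, π i = i := hcr π hπ fun i hci => by
    have hi : i ≠ 1 := fun h => hci (h ▸ hc1)
    have h := hgz i hi
    simp only [z, if_neg hi, if_neg (hπ1 i hi), if_neg hci] at h
    rw [hfv _ hci] at h
    have h' := Subtype.ext h
    by_cases hc' : c (π i) = 0
    · rw [if_pos hc'] at h'
      by_cases he : ∃ j, η j = π i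
      · obtain ⟨j, hj⟩ := he
        rw [← hj, hη.extend_apply] at h'
        exact absurd h' ((hsep _ hci).2 j)
      · rw [Function.extend_apply' _ _ _ he] at h'
        exact absurd h' (hsep _ hci).1
    · rw [if_neg hc'] at h'
      exact (hval _ _ hci hc' h').symm
  refine ⟨hid, hfE fun j => ?_⟩
  have h := hgz (η j) (hηS j).1
  simp only [hid, z, if_neg (hηS j).1, if_pos (hηS j).2, hη.extend_apply] at h
  exact h

/-- The fixed space is a line. -/
theorem triple_of_line (hsemi : ∀ (g : A) (k : K) (v : V), g • (k • v) = σ g k • (g • v)) {θ : Kˣ}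
    (hθ : ∀ x : Kˣ, x ∈ Subgroup.zpowers θ) (hθ1 : θ ≠ 1) (F : Frame A Z K V)
    (he : Module.finrank K F.E = 1) : Triple A V := by
  classical
  obtain ⟨c, hc1, hcr, -, -⟩ := exists_rigid F.I
  let v : F.E := ⟨F.v₁, F.hv₁E⟩
  have hv : v ≠ 0 := fun h => F.hv₁ (congrArg Subtype.val h)
  obtain ⟨b, hb⟩ := exists_basis_first (K := K) hv (d := 0) he
  let z : F.I → F.E := fun i =>
    if c i = 2 then (θ : K) • v else if c i = 1 ∨ c i = 3 then v else 0
  refine F.triple_of_colouring ((θ : K) • v) z (fun i => decide (c i ≠ 3)) (fun i _ h => ?_) ?_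
  · simp only [decide_eq_false_iff_not, ne_eq, not_not] at h
    simp [z, v, h]
  intro g π hg ha _ hπ hy hgz
  have hlin := aut_eq_id hsemi hθ F.hv₁ hg ha
  have hzfix : ∀ i, g • (z i : V) = z i := by
    intro i
    simp only [z]
    split_ifs
    · exact ha
    · exact hg
    · simp
  have hne2 : (θ : K) • v ≠ v := fun h => hθ1 (Units.ext (smul_left_injective K hv (h.trans (one_smul K v).symm)))
  have hne0 : (θ : K) • v ≠ 0 := smul_ne_zero (Units.ne_zero θ) hv
  refine ⟨hcr π hπ fun i hci => ?_, fix_of_basis hsemi b hlin fun i => ?_⟩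
  · have hi : i ≠ 1 := fun h => hci (h ▸ hc1)
    have h1 : z (π i) = z i := Subtype.ext ((hgz i hi).symm.trans (hzfix i))
    have h2 := hy i hi
    simp only [decide_eq_decide, ne_eq, not_iff_not] at h2
    have hcases : ∀ x : Fin 4, x = 0 ∨ x = 1 ∨ x = 2 ∨ x = 3 := by decide
    rcases hcases (c i) with h | h | h | h <;> rcases hcases (c (π i)) with h' | h' | h' | h' <;>
      first
      | exact absurd h hci
      | exact h'.trans h.symm
      | (simp [h, h'] at h2; done)
      | (simp [z, h, h', hne2, hne0, hne2.symm, hne0.symm, hv, Ne.symm hv] at h1)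
  · obtain rfl : i = 0 := Fin.ext (by omega)
    rw [hb]
    exact hg

/-- Few basis vectors: a generating multiple forces linearity. -/
theorem triple_of_slots (hsemi : ∀ (g : A) (k : K) (v : V), g • (k • v) = σ g k • (g • v)) {θ : Kˣ}
    (hθ : ∀ x : Kˣ, x ∈ Subgroup.zpowers θ) (F : Frame A Z K V) {c : F.I → Fin 4} (hc1 : c 1 = 0)
    (hcr : ∀ π : F.I →* F.I, Function.Injective π → (∀ i, c i ≠ 0 → c (π i) = c i) → ∀ i, π i = i)
    {d : ℕ} (he : Module.finrank K F.E = d + 2)
    (hd : d + 1 + (Finset.univ.filter fun i => c i ≠ 0).card ≤ Nat.card F.I) : Triple A V := by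
  classical
  let v : F.E := ⟨F.v₁, F.hv₁E⟩
  have hv : v ≠ 0 := fun h => F.hv₁ (congrArg Subtype.val h)
  obtain ⟨b, hb⟩ := exists_basis_first (K := K) hv (d := d + 1) he
  have hb' : (b 0 : V) = F.v₁ := congrArg Subtype.val hb
  let val : Fin 4 → F.E := ![0, b 0, b 1, b 0 + b 1]
  refine triple_of_values F hc1 hcr ((θ : K) • b 0) (b 1) val ?_ (fun j => b j.succ.succ) hd ?_ ?_
  · intro p q hp hq h
    have h0 := congrArg (fun x => b.repr x 0) h
    have h1 := congrArg (fun x => b.repr x 1) h
    revert hp hq h0 h1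
    fin_cases p <;> fin_cases q <;> simp [val, Finsupp.single_apply]
  · intro p hp
    refine ⟨fun h => ?_, fun j h => ?_⟩
    · have h0 := congrArg (fun x => b.repr x 0) h
      have h1 := congrArg (fun x => b.repr x 1) h
      revert hp h0 h1
      fin_cases p <;> simp [val, Finsupp.single_apply]
    · have h0 := congrArg (fun x => b.repr x 0) h
      have h1 := congrArg (fun x => b.repr x 1) h
      have n0 : j.succ.succ ≠ (0 : Fin (d + 1 + 1)) := Fin.succ_ne_zero _
      have n1 : j.succ.succ ≠ (1 : Fin (d + 1 + 1)) := fun e =>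
        Fin.succ_ne_zero j (Fin.succ_injective _ (e.trans (by simp)))
      revert hp h0 h1
      fin_cases p <;> simp [val, Finsupp.single_apply, n0, n1]
  · intro g hg ha hw
    have h0 : g • (b 0 : V) = b 0 := by rw [hb']; exact hg
    have hlin := aut_eq_id hsemi hθ F.hv₁ hg (by
      rw [Submodule.coe_smul, hb'] at ha; exact ha)
    refine ⟨fun p _ => ?_, fun hx => fix_of_basis hsemi b hlin fun i => ?_⟩
    · fin_cases p
      · simp [val]
      · simpa [val] using h0
      · simpa [val] using hw
      · simp [val, smul_add, h0, hw]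
    · induction i using Fin.cases with
      | zero => exact h0
      | succ i =>
        induction i using Fin.cases with
        | zero => exact hw
        | succ i => exact hx i

/-- Few basis vectors over a prime field. -/
theorem triple_of_slots_prime (hsemi : ∀ (g : A) (k : K) (v : V), g • (k • v) = σ g k • (g • v))
    (hQ : (Nat.card K).Prime) (F : Frame A Z K V) {c : F.I → Fin 4} (hc1 : c 1 = 0)
    (hcr : ∀ π : F.I →* F.I, Function.Injective π → (∀ i, c i ≠ 0 → c (π i) = c i) → ∀ i, π i = i)
    {d : ℕ} (he : Module.finrank K F.E = d + 3)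
    (hd : d + 1 + (Finset.univ.filter fun i => c i ≠ 0).card ≤ Nat.card F.I) : Triple A V := by
  classical
  let v : F.E := ⟨F.v₁, F.hv₁E⟩
  have hv : v ≠ 0 := fun h => F.hv₁ (congrArg Subtype.val h)
  obtain ⟨b, hb⟩ := exists_basis_first (K := K) hv (d := d + 2) he
  have hb' : (b 0 : V) = F.v₁ := congrArg Subtype.val hb
  let val : Fin 4 → F.E := ![0, b 0, b 1, b 0 + b 1]
  refine triple_of_values F hc1 hcr (b 1) (b ((0 : Fin (d + 1)).succ.succ)) val ?_
    (fun j => b j.succ.succ.succ) hd ?_ ?_
  · intro p q hp hq h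
    have h0 := congrArg (fun x => b.repr x 0) h
    have h1 := congrArg (fun x => b.repr x 1) h
    revert hp hq h0 h1
    fin_cases p <;> fin_cases q <;> simp [val, Finsupp.single_apply]
  · intro p hp
    refine ⟨fun h => ?_, fun j h => ?_⟩
    · have h0 := congrArg (fun x => b.repr x 0) h
      have h1 := congrArg (fun x => b.repr x 1) h
      revert hp h0 h1
      fin_cases p <;> simp [val, Finsupp.single_apply]
    · have h0 := congrArg (fun x => b.repr x 0) h
      have h1 := congrArg (fun x => b.repr x 1) h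
      have n0 : j.succ.succ.succ ≠ (0 : Fin (d + 2 + 1)) := Fin.succ_ne_zero _
      have n1 : j.succ.succ.succ ≠ (1 : Fin (d + 2 + 1)) := fun e =>
        Fin.succ_ne_zero j.succ (Fin.succ_injective _ (e.trans (by simp)))
      revert hp h0 h1
      fin_cases p <;> simp [val, Finsupp.single_apply, n0, n1]
  · intro g hg ha hw
    have h0 : g • (b 0 : V) = b 0 := by rw [hb']; exact hg
    refine ⟨fun p _ => ?_, fun hx => fix_of_basis hsemi b (aut_eq_id_of_prime hQ g) fun i => ?_⟩
    · fin_cases p
      · simp [val]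
      · simpa [val] using h0
      · simpa [val] using ha
      · simp [val, smul_add, h0, ha]
    · induction i using Fin.cases with
      | zero => exact h0
      | succ i =>
        induction i using Fin.cases with
        | zero => exact ha
        | succ i =>
          induction i using Fin.cases with
          | zero => exact hw
          | succ i => exact hx i

/-- At most two dimensions. -/
theorem triple_small [Nontrivial V] (hsemi : ∀ (g : A) (k : K) (v : V), g • (k • v) = σ g k • (g • v))
    {θ : Kˣ} (hθ : ∀ x : Kˣ, x ∈ Subgroup.zpowers θ) (he : Module.finrank K V ≤ 2) : Triple A V := by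
  obtain ⟨v, hv⟩ := exists_ne (0 : V)
  obtain ⟨d, hd⟩ : ∃ d, Module.finrank K V = d + 1 :=
    Nat.exists_eq_add_one.2 (Module.finrank_pos (R := K) (M := V))
  obtain ⟨b, hb⟩ := exists_basis_first (K := K) hv hd
  refine ⟨v, (θ : K) • v, b (Fin.last d), fun g h1 h2 h3 w => ?_⟩
  have hlin := aut_eq_id hsemi hθ hv h1 h2
  rw [← b.sum_repr w, Finset.smul_sum]
  refine Finset.sum_congr rfl fun i _ => ?_
  rw [hsemi, hlin]
  congr 1
  by_cases hi : i = 0
  · rw [hi, hb]; exact h1
  · rw [show i = Fin.last d from Fin.ext (by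
      have := i.2
      have : (i : ℕ) ≠ 0 := fun h => hi (Fin.ext h)
      rw [Fin.val_last]; omega)]
    exact h3

end Cfsg.Lib.SolvBase
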