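import Cfsg.Agent.SolvBase.Colour

/-!
The imprimitive case: colour a primitive system of imprimitivity with five regular orbits.
-/

set_option autoImplicit false
set_option linter.unusedSectionVars false

namespace Cfsg.Lib.SolvBase

open Cfsg.Lib.OddBase

universe u

variable {A V : Type u} [Group A] [Finite A] [AddCommGroup V] [Finite V] [DistribMulAction A V]
  [FaithfulSMul A V]

/-- A primitive system of imprimitivity gives a regular triple. -/
theorem triple_blocks [Group.IsSolvable A] {N : ℕ} (hb : Below3.{u} N) (hN : Nat.card A ≤ N)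
    (hirr : Irr A V) {Ω : Type u} [MulAction A Ω] [Fintype Ω] [DecidableEq Ω] [Nontrivial Ω]
    (hprim : MulAction.IsPreprimitive A Ω) (E : Ω → AddMonoid.End V) (hid : ∀ e, E e * E e = E e)
    (horth : ∀ e f, e ≠ f → E e * E f = 0) (hsum : ∑ e, E e = 1) (hne : ∀ e, E e ≠ 0)
    (heq : ∀ (g : A) (e : Ω) (x : V), g • E e x = E (g • e) (g • x)) : Triple A V := by
  classical
  haveI := hprim
  obtain ⟨b₀, b₁, hb01⟩ := exists_pair_ne Ω
  haveI : Nontrivial V := by
    by_contra h
    rw [not_nontrivial_iff_subsingleton] at h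
    exact hne b₀ (AddMonoidHom.ext fun x => Subsingleton.elim _ _)
  obtain ⟨p, hp, hexp⟩ := exists_prime_exp hirr
  haveI := Fact.mk hp
  let W : AddSubgroup V :=
    { carrier := {x | E b₀ x = x}
      zero_mem' := map_zero (E b₀)
      add_mem' := fun {x y} hx hy => by
        change E b₀ (x + y) = x + y
        rw [map_add, hx, hy]
      neg_mem' := fun {x} hx => by
        change E b₀ (-x) = -x
        rw [map_neg, hx] }
  let H := MulAction.stabilizer A b₀
  have hmove : ∀ (g : A) (e : Ω) (x : V), E e x = x → E (g • e) (g • x) = g • x := by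
    intro g e x hx
    rw [← heq, hx]
  letI : DistribMulAction H W :=
    { smul := fun h x => ⟨(h : A) • (x : V), by
        have := hmove h b₀ x x.2
        rw [MulAction.mem_stabilizer_iff.1 h.2] at this
        exact this⟩
      one_smul := fun x => Subtype.ext (one_smul A (x : V))
      mul_smul := fun g h x => Subtype.ext (mul_smul (g : A) (h : A) (x : V))
      smul_zero := fun g => Subtype.ext (smul_zero (g : A))
      smul_add := fun g x y => Subtype.ext (smul_add (g : A) (x : V) (y : V)) }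
  haveI : Nontrivial W := by
    rw [AddSubgroup.nontrivial_iff_ne_bot]
    intro h
    apply hne b₀
    ext x
    have hx : E b₀ x ∈ W := DFunLike.congr_fun (hid b₀) x
    rw [h, AddSubgroup.mem_bot] at hx
    exact hx
  have hHlt : Nat.card H < N := by
    refine lt_of_lt_of_le ?_ hN
    obtain ⟨g, hg⟩ := MulAction.exists_smul_eq A b₀ b₁
    refine lt_of_le_of_ne H.card_le_card_group fun h => hb01 ?_
    rw [← hg]
    refine (MulAction.mem_stabilizer_iff.1 ?_).symm
    change g ∈ H
    rw [Subgroup.eq_top_of_card_eq H h]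
    trivial
  have hHcr : CR H W := cr_of_irr <| by
    intro U hU
    by_cases hUb : U = ⊥
    · exact Or.inl hUb
    right
    let U' : AddSubgroup V := AddSubgroup.closure {x : V | ∃ g : A, ∃ u ∈ U, x = g • (u : V)}
    have hU' : U' = ⊤ := by
      refine (hirr U' ?_).resolve_left fun h => hUb ?_
      · intro g x hx
        induction hx using AddSubgroup.closure_induction with
        | mem y hy =>
          obtain ⟨g', w, hw, rfl⟩ := hy
          exact AddSubgroup.subset_closure ⟨g * g', w, hw, (mul_smul g g' (w : V)).symm⟩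
        | zero => rw [smul_zero]; exact zero_mem _
        | add y z _ _ hy hz => rw [smul_add]; exact add_mem hy hz
        | neg y _ hy => rw [smul_neg]; exact neg_mem hy
      · rw [eq_bot_iff]
        intro w hw
        have hx : (w : V) ∈ U' := AddSubgroup.subset_closure ⟨1, w, hw, (one_smul A _).symm⟩
        rw [h, AddSubgroup.mem_bot] at hx
        exact AddSubgroup.mem_bot.2 (Subtype.ext hx)
    rw [eq_top_iff]
    intro w _
    have hproj : ∀ x ∈ U', ∃ u ∈ U, E b₀ x = (u : V) := by
      intro x hx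
      induction hx using AddSubgroup.closure_induction with
      | mem y hy =>
        obtain ⟨g, w, hw, rfl⟩ := hy
        by_cases hg : g • b₀ = b₀
        · refine ⟨(⟨g, MulAction.mem_stabilizer_iff.2 hg⟩ : H) • w, hU _ w hw, ?_⟩
          exact ((⟨g, MulAction.mem_stabilizer_iff.2 hg⟩ : H) • w).2
        · refine ⟨0, zero_mem U, ?_⟩
          rw [← hmove g b₀ (w : V) w.2]
          exact DFunLike.congr_fun (horth b₀ (g • b₀) fun h => hg h.symm) _
      | zero => exact ⟨0, zero_mem U, by simp⟩
      | add y z _ _ hy hz =>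
        obtain ⟨u, hu, hu'⟩ := hy
        obtain ⟨v, hv, hv'⟩ := hz
        exact ⟨u + v, add_mem hu hv, by rw [map_add, hu', hv']; rfl⟩
      | neg y _ hy =>
        obtain ⟨u, hu, hu'⟩ := hy
        exact ⟨-u, neg_mem hu, by rw [map_neg, hu']; rfl⟩
    obtain ⟨v, hv, hv'⟩ := hproj w (hU' ▸ AddSubgroup.mem_top _)
    have : v = w := Subtype.ext (by rw [← hv']; exact w.2)
    exact this ▸ hv
  let π : H →* (AddMonoid.End W)ˣ := (DistribMulAction.toAddMonoidEnd H W).toHomUnits
  let X := π.range
  haveI : Finite X := Finite.of_surjective _ π.rangeRestrict_surjective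
  haveI : Group.IsSolvable X := Group.isSolvable_of_surjective π.rangeRestrict_surjective
  haveI : FaithfulSMul X W := ⟨fun {s t} h => Subtype.ext (Units.ext (AddMonoidHom.ext h))⟩
  have hWexp : ∀ x : W, p • x = 0 := fun x => Subtype.ext (hexp x)
  have hXt : Triple X W := by
    refine hb X W (lt_of_le_of_lt ?_ hHlt) inferInstance ?_
    · exact Nat.le_of_dvd Nat.card_pos (Subgroup.card_range_dvd π)
    · intro U hU
      obtain ⟨T, hT, h⟩ := hHcr U fun a v hv => hU ⟨π a, a, rfl⟩ v hv
      exact ⟨T, by rintro ⟨_, a, rfl⟩ w hw; exact hT a w hw, h⟩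
  obtain ⟨f, hf, hfne⟩ := five_orbits p hWexp hXt
  let ρ : A →* Equiv.Perm Ω := MulAction.toPermHom A Ω
  haveI : Group.IsSolvable ρ.range := Group.isSolvable_of_surjective ρ.rangeRestrict_surjective
  haveI : MulAction.IsPreprimitive ρ.range Ω := by
    let F : Ω →ₑ[⇑ρ.rangeRestrict] Ω := { toFun := id, map_smul' := fun _ _ => rfl }
    exact MulAction.IsPreprimitive.of_surjective (f := F) Function.surjective_id
  obtain ⟨c, hc⟩ := dist_primitive hb (G := ρ.range) (α := Ω) inferInstance
    ((Nat.le_of_dvd Nat.card_pos (Subgroup.card_range_dvd ρ)).trans hN)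
  have hg : ∀ e : Ω, ∃ g : A, g • b₀ = e := MulAction.exists_smul_eq A b₀
  choose gg hgg using hg
  have hproj : ∀ (z : Ω → W) (e : Ω), E e (∑ f : Ω, gg f • (z f : V)) = gg e • (z e : V) := by
    intro z e
    rw [map_sum, Finset.sum_eq_single e]
    · have := hmove (gg e) b₀ (z e : V) (z e).2
      rw [hgg] at this
      exact this
    · intro f _ hf'
      have h2 := hmove (gg f) b₀ (z f : V) (z f).2
      rw [hgg] at h2
      rw [← h2]
      exact DFunLike.congr_fun (horth e f fun h => hf' h.symm) _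
    · simp
  refine ⟨∑ e, gg e • (((f (c e)).1 : W) : V), ∑ e, gg e • (((f (c e)).2.1 : W) : V),
    ∑ e, gg e • (((f (c e)).2.2 : W) : V), fun a h1 h2 h3 => ?_⟩
  have hh : ∀ e : Ω, (gg (a • e))⁻¹ * a * gg e ∈ H := fun e => by
    rw [MulAction.mem_stabilizer_iff, mul_smul, mul_smul, hgg, inv_smul_eq_iff, hgg]
  have hcomp : ∀ (z : Ω → W), a • (∑ e, gg e • (z e : V)) = ∑ e, gg e • (z e : V) → ∀ e,
      (⟨_, hh e⟩ : H) • z e = z (a • e) := by
    intro z hz e
    apply Subtype.ext
    change ((gg (a • e))⁻¹ * a * gg e) • (z e : V) = _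
    rw [mul_smul, mul_smul, inv_smul_eq_iff, ← hproj z (a • e), ← hproj z e, heq, hz]
  have hloc : ∀ e : Ω, (⟨π ⟨_, hh e⟩, ⟨_, hh e⟩, rfl⟩ : X) • f (c e) = f (c (a • e)) := fun e =>
    Prod.ext (hcomp (fun e => (f (c e)).1) h1 e) (Prod.ext (hcomp (fun e => (f (c e)).2.1) h2 e)
      (hcomp (fun e => (f (c e)).2.2) h3 e))
  have hfix : ∀ e : Ω, a • e = e := fun e => by
    have := hc ⟨ρ a, a, rfl⟩ fun e => (hfne _ _ _ (hloc e)).symm
    exact Equiv.Perm.congr_fun (congrArg Subtype.val this) e
  intro z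
  have hz : z = ∑ e : Ω, E e z := by
    conv_lhs => rw [show z = (∑ e : Ω, E e) z by rw [hsum]; rfl]
    exact AddMonoidHom.finsetSum_apply _ _ _
  rw [hz, Finset.smul_sum]
  refine Finset.sum_congr rfl fun e _ => ?_
  have h5 : (gg e)⁻¹ • E e z ∈ W := by
    have h6 := hmove (gg e)⁻¹ e (E e z) (DFunLike.congr_fun (hid e) z)
    rw [show (gg e)⁻¹ • e = b₀ by rw [inv_smul_eq_iff, hgg]] at h6
    exact h6
  have h7 := (hloc e).trans (congrArg (fun q => f (c q)) (hfix e))
  have h8 := hf _ _ h7
  have h10 := congrArg Units.val (congrArg Subtype.val h8)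
  have h11 := DFunLike.congr_fun h10 (⟨(gg e)⁻¹ • E e z, h5⟩ : W)
  have h9 : ((gg (a • e))⁻¹ * a * gg e) • ((gg e)⁻¹ • E e z) = (gg e)⁻¹ • E e z :=
    congrArg Subtype.val h11
  rw [mul_smul, mul_smul, hfix e, smul_inv_smul] at h9
  exact smul_left_cancel _ h9

/-- The imprimitive case: an idempotent other than `0` and `1` in the algebra. -/
theorem triple_of_idem [Group.IsSolvable A] {N : ℕ} (hb : Below3.{u} N) (hN : Nat.card A ≤ N)
    (hirr : Irr A V) (Z : Subgroup A) [Z.Normal] [IsMulCommutative Z]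
    (e₀ : AddMonoid.End V) (he₀ : e₀ ∈ alg A V Z) (hid : e₀ * e₀ = e₀) (h0 : e₀ ≠ 0) (h1 : e₀ ≠ 1) :
    Triple A V := by
  classical
  haveI : Finite (AddMonoid.End V) :=
    Finite.of_injective (fun f : AddMonoid.End V => (f : V → V)) DFunLike.coe_injective
  haveI := Fintype.ofFinite (AddMonoid.End V)
  haveI := Fintype.ofFinite V
  let Idem : AddMonoid.End V → Prop := fun e => e ∈ alg A V Z ∧ e * e = e
  let Atom : AddMonoid.End V → Prop := fun e =>
    Idem e ∧ e ≠ 0 ∧ ∀ f, Idem f → f * e = 0 ∨ f * e = e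
  have hmul : ∀ e f, Idem e → Idem f → Idem (e * f) := fun e f he hf => ⟨mul_mem he.1 hf.1, by
    have hc := alg_comm hf.1 he.1
    calc e * f * (e * f) = e * (f * e) * f := by simp only [mul_assoc]
      _ = e * (e * f) * f := by rw [hc]
      _ = (e * e) * (f * f) := by simp only [mul_assoc]
      _ = e * f := by rw [he.2, hf.2]⟩
  have hbelow : ∀ n e, Nat.card (Set.range (e : AddMonoid.End V)) ≤ n → Idem e → e ≠ 0 →
      ∃ a, Atom a ∧ a * e = a := by
    intro n
    induction n using Nat.strong_induction_on with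
    | _ n ih =>
      intro e hn he hne
      by_cases hat : ∀ f, Idem f → f * e = 0 ∨ f * e = e
      · exact ⟨e, ⟨he, hne, hat⟩, he.2⟩
      push Not at hat
      obtain ⟨f, hf, hfe0, hfe⟩ := hat
      have hlt : Nat.card (Set.range (f * e : AddMonoid.End V)) < Nat.card (Set.range (e : AddMonoid.End V)) := by
        rw [Nat.card_coe_set_eq, Nat.card_coe_set_eq]
        refine Set.ncard_lt_ncard ⟨?_, ?_⟩
        · rintro _ ⟨x, rfl⟩
          exact ⟨f x, by
            rw [show f * e = e * f from alg_comm hf.1 he.1]; rfl⟩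
        · intro hsub
          apply hfe
          ext x
          obtain ⟨y, hy⟩ := hsub ⟨x, rfl⟩
          have h3 := (hmul f e hf he).2
          have : (f * e) (e x) = e x := by
            rw [← hy]
            exact DFunLike.congr_fun h3 y
          calc (f * e) x = (f * (e * e)) x := by rw [he.2]
            _ = (f * e) (e x) := rfl
            _ = e x := this
      obtain ⟨a, ha, hae⟩ := ih _ (lt_of_lt_of_le hlt hn) (f * e) le_rfl (hmul f e hf he) hfe0
      refine ⟨a, ha, ?_⟩
      calc a * e = a * (f * e) * e := by rw [hae]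
        _ = a * (f * (e * e)) := by simp only [mul_assoc]
        _ = a := by rw [he.2, hae]
  obtain ⟨a₀, ha₀, -⟩ := hbelow _ e₀ le_rfl ⟨he₀, hid⟩ h0
  let cj : A → AddMonoid.End V → AddMonoid.End V := fun g e => act A V g * e * act A V g⁻¹
  have hcjm : ∀ g h e, cj (g * h) e = cj g (cj h e) := fun g h e => by
    simp only [cj, mul_inv_rev, map_mul, mul_assoc]
  have hcj1 : ∀ e, cj 1 e = e := fun e => by simp only [cj, inv_one, map_one, mul_one, one_mul]
  have hcjmul : ∀ g e f, cj g (e * f) = cj g e * cj g f := by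
    intro g e f
    have hinv : act A V g⁻¹ * act A V g = 1 := by rw [← map_mul, inv_mul_cancel, map_one]
    simp only [cj, mul_assoc]
    rw [← mul_assoc (act A V g⁻¹) (act A V g), hinv, one_mul]
  have hcjI : ∀ g e, Idem e → Idem (cj g e) := fun g e he =>
    ⟨alg_conj g he.1, by rw [← hcjmul, he.2]⟩
  have hcjA : ∀ g e, Atom e → Atom (cj g e) := by
    intro g e he
    refine ⟨hcjI g e he.1, fun h => he.2.1 ?_, fun f hf => ?_⟩
    · have := congrArg (cj g⁻¹) h
      rw [← hcjm, inv_mul_cancel, hcj1] at this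
      rw [this]; simp only [cj, mul_zero, zero_mul]
    · have hfg : cj g (cj g⁻¹ f) = f := by rw [← hcjm, mul_inv_cancel, hcj1]
      rcases he.2.2 _ (hcjI g⁻¹ f hf) with h | h
      · left; rw [← hfg, ← hcjmul, h]; simp only [cj, mul_zero, zero_mul]
      · right; rw [← hfg, ← hcjmul, h]
  -- the blocks
  let Bl : Type u := {e : AddMonoid.End V // Atom e}
  letI : MulAction A Bl :=
    { smul := fun g e => ⟨cj g e.1, hcjA g e.1 e.2⟩
      one_smul := fun e => Subtype.ext (hcj1 e.1)
      mul_smul := fun g h e => Subtype.ext (hcjm g h e.1) }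
  haveI := Fintype.ofFinite Bl
  have horth : ∀ e f : Bl, e ≠ f → e.1 * f.1 = 0 := by
    intro e f hne
    rcases f.2.2.2 e.1 e.2.1 with h | h
    · exact h
    rcases e.2.2.2 f.1 f.2.1 with h' | h'
    · rw [alg_comm e.2.1.1 f.2.1.1, h']
    · exact absurd (Subtype.ext (by rw [← h', alg_comm f.2.1.1 e.2.1.1, h])) hne
  let S : Finset Bl → AddMonoid.End V := fun s => ∑ e ∈ s, e.1
  have hSmul : ∀ (s : Finset Bl) (e : Bl), S s * e.1 = if e ∈ s then e.1 else 0 := by
    intro s e
    rw [Finset.sum_mul]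
    rw [Finset.sum_congr rfl (g := fun f => if f = e then e.1 else 0) ?_]
    · rw [Finset.sum_ite_eq']
    · intro f _
      by_cases h : f = e
      · rw [if_pos h, h]; exact e.2.1.2
      · rw [if_neg h]; exact horth f e h
  have hSid : ∀ s, Idem (S s) := fun s => ⟨sum_mem fun e _ => e.2.1.1, by
    change S s * (∑ e ∈ s, e.1) = _
    rw [Finset.mul_sum]
    exact Finset.sum_congr rfl fun e he => by rw [hSmul, if_pos he]⟩
  have hsum1 : S Finset.univ = 1 := by
    by_contra hne
    have hI : Idem (1 - S Finset.univ) := ⟨sub_mem (one_mem _) (hSid _).1, by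
      rw [mul_sub, sub_mul, one_mul, sub_mul, one_mul, (hSid _).2, mul_one, sub_self, sub_zero]⟩
    obtain ⟨a, ha, hae⟩ := hbelow _ _ le_rfl hI (sub_ne_zero.2 fun h => hne h.symm)
    apply ha.2.1
    rw [← hae, alg_comm ha.1.1 hI.1, sub_mul, one_mul, hSmul _ ⟨a, ha⟩, if_pos (Finset.mem_univ _),
      sub_self]
  haveI : MulAction.IsPretransitive A Bl := by
    let O : Finset Bl := Finset.univ.filter fun e => e ∈ MulAction.orbit A (⟨a₀, ha₀⟩ : Bl)
    have hO : ∀ g : A, cj g (S O) = S O := by
      intro g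
      simp only [cj, S, Finset.mul_sum, Finset.sum_mul]
      refine Finset.sum_equiv (MulAction.toPerm g) (fun e => ?_) (fun e _ => rfl)
      simp only [O, Finset.mem_filter, Finset.mem_univ, true_and, MulAction.toPerm_apply]
      rw [← MulAction.orbit_eq_iff, ← MulAction.orbit_eq_iff, MulAction.orbit_smul]
    let U : AddSubgroup V := (S O).range
    have hU : U = ⊤ := by
      refine (hirr U ?_).resolve_left fun h => ?_
      · rintro g _ ⟨x, rfl⟩
        refine ⟨g • x, ?_⟩
        conv_lhs => rw [← hO g]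
        change act A V g (S O (act A V g⁻¹ (g • x))) = g • S O x
        rw [act_apply, act_apply, inv_smul_smul]
      · apply ha₀.2.1
        ext x
        have h2 : S O * a₀ = a₀ := by
          rw [hSmul O ⟨a₀, ha₀⟩, if_pos (by simp [O])]
        have hx : a₀ x ∈ U := ⟨a₀ x, DFunLike.congr_fun h2 x⟩
        rw [h, AddSubgroup.mem_bot] at hx
        exact hx
    have hSO : S O = 1 := by
      ext x
      obtain ⟨y, rfl⟩ := (show x ∈ U from hU ▸ AddSubgroup.mem_top x)
      exact DFunLike.congr_fun (hSid O).2 y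
    rw [MulAction.isPretransitive_iff_base (⟨a₀, ha₀⟩ : Bl)]
    intro e
    have h2 := hSmul O e
    rw [hSO, one_mul] at h2
    by_cases he : e ∈ O
    · exact (Finset.mem_filter.1 he).2
    · rw [if_neg he] at h2; exact absurd h2 e.2.2.1
  let b₀ : Bl := ⟨a₀, ha₀⟩
  have hbl2 : ∃ e : Bl, e ≠ b₀ := by
    by_contra h
    push Not at h
    have hall : ∀ e : Bl, S Finset.univ = e.1 := fun e => by
      refine Finset.sum_eq_single e (fun f _ hf => absurd ((h f).trans (h e).symm) hf) (by simp)
    rcases b₀.2.2.2 e₀ ⟨he₀, hid⟩ with h2 | h2 <;> rw [← hall b₀, hsum1, mul_one] at h2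
    · exact h0 h2
    · exact h1 h2
  -- coarsen to a primitive system
  have hstab : MulAction.stabilizer A b₀ ≠ ⊤ := by
    intro h
    obtain ⟨e, he⟩ := hbl2
    obtain ⟨g, hg⟩ := MulAction.exists_smul_eq A b₀ e
    exact he (hg ▸ MulAction.mem_stabilizer_iff.1 (h ▸ Subgroup.mem_top g))
  obtain ⟨M, hM, hle⟩ := (eq_top_or_exists_le_coatom (MulAction.stabilizer A b₀)).resolve_left hstab
  have hg : ∀ e : Bl, ∃ g : A, g • b₀ = e := MulAction.exists_smul_eq A b₀
  choose gg hgg using hg
  let π : Bl → A ⧸ M := fun e => QuotientGroup.mk (gg e)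
  have hπ : ∀ (g : A) (e : Bl), π (g • e) = g • π e := by
    intro g e
    change (QuotientGroup.mk (gg (g • e)) : A ⧸ M) = QuotientGroup.mk (g * gg e)
    rw [QuotientGroup.eq]
    apply hle
    rw [MulAction.mem_stabilizer_iff, mul_smul, mul_smul, hgg, inv_smul_eq_iff, hgg]
  haveI : Nontrivial (A ⧸ M) := by
    rw [← Finite.one_lt_card_iff_nontrivial, ← Subgroup.index_eq_card]
    exact Subgroup.one_lt_index_of_ne_top hM.1
  haveI := Fintype.ofFinite (A ⧸ M)
  have hprim : MulAction.IsPreprimitive A (A ⧸ M) :=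
    (MulAction.isCoatom_stabilizer_iff_preprimitive A (QuotientGroup.mk (1 : A) : A ⧸ M)).1
      (by rw [MulAction.stabilizer_quotient]; exact hM)
  have hfib : ∀ q : A ⧸ M, S (Finset.univ.filter fun e => π e = q) ≠ 0 := by
    intro q h
    obtain ⟨g, rfl⟩ := QuotientGroup.mk_surjective q
    have hmem : π (g • b₀) = QuotientGroup.mk g := by
      change (QuotientGroup.mk (gg (g • b₀)) : A ⧸ M) = QuotientGroup.mk g
      rw [QuotientGroup.eq]
      apply hle
      rw [MulAction.mem_stabilizer_iff, mul_smul, inv_smul_eq_iff, hgg]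
    have h2 := hSmul (Finset.univ.filter fun e => π e = QuotientGroup.mk g) (g • b₀)
    have hin : g • b₀ ∈ Finset.univ.filter fun e => π e = QuotientGroup.mk g := by simp [hmem]
    rw [h, zero_mul, if_pos hin] at h2
    exact (g • b₀).2.2.1 h2.symm
  refine triple_blocks hb hN hirr hprim (fun q => S (Finset.univ.filter fun e => π e = q))
    (fun q => (hSid _).2) (fun q q' hqq => ?_) ?_ hfib fun g q x => ?_
  · change S _ * (∑ e ∈ (_ : Finset Bl), e.1) = 0
    rw [Finset.mul_sum]
    refine Finset.sum_eq_zero fun e he => ?_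
    rw [hSmul, if_neg]
    intro he'
    exact hqq ((Finset.mem_filter.1 he').2.symm.trans (Finset.mem_filter.1 he).2)
  · rw [← hsum1]
    exact Finset.sum_fiberwise Finset.univ π fun e => e.1
  · change g • (∑ e ∈ (_ : Finset Bl), e.1) x = (∑ e ∈ (_ : Finset Bl), e.1) (g • x)
    refine (congrArg (g • ·) (AddMonoidHom.finsetSum_apply (fun e : Bl => e.1) _ _)).trans ?_
    refine Eq.trans ?_ (AddMonoidHom.finsetSum_apply (fun e : Bl => e.1) _ _).symm
    rw [Finset.smul_sum]
    refine Finset.sum_equiv (MulAction.toPerm g) (fun e => ?_) (fun e _ => ?_)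
    · simp only [Finset.mem_filter, Finset.mem_univ, true_and, MulAction.toPerm_apply, hπ]
      exact (MulAction.injective g).eq_iff.symm
    · change g • e.1 x = act A V g (e.1 (act A V g⁻¹ (g • x)))
      rw [act_apply, act_apply, inv_smul_smul]

end Cfsg.Lib.SolvBase
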