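import Mathlib

/-!
The numerical part of the counting argument.
-/

set_option autoImplicit false

namespace Cfsg.Lib.SolvBase

theorem big_bound : ∀ n : ℕ, 5 ≤ n → (2 * n) ^ 32 ≤ 16 * 3 ^ (15 * n - 8) := by
  intro n hn
  induction n, hn using Nat.le_induction with
  | base => norm_num
  | succ n hn ih =>
    have h1 : 5 * (2 * (n + 1)) ≤ 6 * (2 * n) := by omega
    have h2 : 5 ^ 32 * (2 * (n + 1)) ^ 32 ≤ 6 ^ 32 * (2 * n) ^ 32 := by
      rw [← mul_pow, ← mul_pow]; exact Nat.pow_le_pow_left h1 32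
    have h3 : (6 : ℕ) ^ 32 ≤ 5 ^ 32 * 3 ^ 15 := by norm_num
    refine Nat.le_of_mul_le_mul_left (h2.trans ?_) (by norm_num : 0 < 5 ^ 32)
    calc 6 ^ 32 * (2 * n) ^ 32 ≤ (5 ^ 32 * 3 ^ 15) * (16 * 3 ^ (15 * n - 8)) :=
          Nat.mul_le_mul h3 ih
      _ = 5 ^ 32 * (16 * 3 ^ (15 * (n + 1) - 8)) := by
          rw [show 15 * (n + 1) - 8 = 15 + (15 * n - 8) by omega, pow_add]; ring

/-- A uniform bound on the group gives the fourth power bound. -/
theorem count_ok {T Q r q e : ℕ} (hT : 2 * T ≤ Q ^ 2 * r ^ 8) (hq : q ≤ Q) (he : 8 ≤ 3 * e)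
    (h : r ^ 32 ≤ 16 * q ^ (3 * e - 8)) : T ^ 4 ≤ Q ^ (3 * e) := by
  have h1 : 16 * T ^ 4 ≤ Q ^ 8 * r ^ 32 := by
    calc 16 * T ^ 4 = (2 * T) ^ 4 := by ring
      _ ≤ (Q ^ 2 * r ^ 8) ^ 4 := Nat.pow_le_pow_left hT 4
      _ = _ := by ring
  have h2 : Q ^ 8 * r ^ 32 ≤ Q ^ 8 * (16 * Q ^ (3 * e - 8)) :=
    Nat.mul_le_mul_left _ (h.trans (Nat.mul_le_mul_left _ (Nat.pow_le_pow_left hq _)))
  have h3 : Q ^ 8 * (16 * Q ^ (3 * e - 8)) = 16 * Q ^ (3 * e) := by
    rw [mul_left_comm, ← pow_add]; congr 2; omega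
  omega

variable {Q δ z r Y n e₀ e m T : ℕ}

theorem card_bound (hδQ : 2 * δ ≤ Q) (hz : z ∣ Q - 1) (hQ : 2 ≤ Q) (hY : Y ≤ r ^ 6) :
    2 * (δ * z * (r * r) * Y) ≤ Q ^ 2 * r ^ 8 := by
  have hz' : z ≤ Q := (Nat.le_of_dvd (by omega) hz).trans (Nat.sub_le _ _)
  calc 2 * (δ * z * (r * r) * Y) = (2 * δ) * z * (r * r) * Y := by ring
    _ ≤ Q * Q * (r * r) * r ^ 6 :=
        Nat.mul_le_mul (Nat.mul_le_mul_right _ (Nat.mul_le_mul hδQ hz')) hY
    _ = _ := by ring

/-- When no short construction applies, the group is small against the module. -/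
theorem count_cases (hδQ : 2 * δ ≤ Q) (hδ1 : Q.Prime → δ ≤ 1) (hz : z ∣ Q - 1) (hQ : 3 ≤ Q)
    (hprimes : ∀ s, s.Prime → s ∣ r → s ∣ z) (hY : Y ≤ r ^ 6)
    (hY5 : ∀ q k : ℕ, q.Prime → r * r = q ^ k → 5 * Y ≤ r ^ 6)
    (hT : T = δ * z * (r * r) * Y) (hn : 2 ≤ n) (hr : r = n ∨ r = 2 * n) (hm : m ≤ n / 2)
    (hm2 : n ≤ 2 → m = 0) (he : e = n * e₀) (hA : n + 2 ≤ e₀ + m)
    (hB : Q.Prime → n + 3 ≤ e₀ + m) :
    T ^ 4 ≤ Q ^ (3 * e) ∨ (Q = 3 ∧ T ≤ 26208 ∧ (e = 10 ∨ e = 12)) := by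
  have hTb : 2 * T ≤ Q ^ 2 * r ^ 8 := hT ▸ card_bound hδQ hz (by omega) hY
  have hz' : z ≤ Q - 1 := Nat.le_of_dvd (by omega) hz
  have hdvd : ∀ s, s.Prime → s ∣ r → s ∣ Q - 1 := fun s hs h => (hprimes s hs h).trans hz
  have h2r : r = 2 * n → 2 ∣ Q - 1 := fun h => hdvd 2 Nat.prime_two (h ▸ dvd_mul_right 2 n)
  rcases Nat.lt_or_ge n 5 with hn5 | hn5
  swap
  · left
    have h5 : 5 ≤ e₀ := by omega
    have he5 : 5 * n ≤ e := by rw [he, mul_comm 5]; exact Nat.mul_le_mul_left _ h5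
    refine count_ok hTb (q := 3) hQ (by omega) ?_
    refine le_trans (le_trans (Nat.pow_le_pow_left (by omega : r ≤ 2 * n) 32) (big_bound n hn5)) ?_
    exact Nat.mul_le_mul_left _ (Nat.pow_le_pow_right (by norm_num) (by omega))
  interval_cases n
  · -- n = 2
    have hm0 : m = 0 := hm2 le_rfl
    rcases hr with rfl | rfl
    · left
      rcases Nat.lt_or_ge Q 4 with h | h
      · obtain rfl : Q = 3 := by omega
        have := hB Nat.prime_three
        refine count_ok hTb (q := 3) le_rfl (by omega) (le_trans (b := 16 * 3 ^ 22) (by norm_num) ?_)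
        exact Nat.mul_le_mul_left _ (Nat.pow_le_pow_right (by norm_num) (by omega))
      · refine count_ok hTb (q := 4) h (by omega) (le_trans (b := 16 * 4 ^ 16) (by norm_num) ?_)
        exact Nat.mul_le_mul_left _ (Nat.pow_le_pow_right (by norm_num) (by omega))
    · have hodd := h2r rfl
      have hY' : Y ≤ 819 := by
        have := hY5 2 4 Nat.prime_two (by norm_num)
        norm_num at this
        omega
      have hT' : T ≤ δ * z * 13104 := by
        rw [hT, mul_assoc (δ * z)]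
        refine Nat.mul_le_mul_left _ (le_trans (Nat.mul_le_mul_left _ hY') (by norm_num))
      rcases Nat.lt_or_ge Q 9 with h9 | h9
      · have hp : Q.Prime := by
          interval_cases Q <;> first | (exfalso; omega) | norm_num
        have hB' := hB hp
        have hT2 : T ≤ (Q - 1) * 13104 :=
          hT'.trans (Nat.mul_le_mul_right _ (le_trans (Nat.mul_le_mul (hδ1 hp) hz') (one_mul _).le))
        rcases Nat.lt_or_ge Q 5 with h5 | h5
        · obtain rfl : Q = 3 := by omega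
          rcases Nat.lt_or_ge e₀ 7 with h7 | h7
          · right
            exact ⟨rfl, by omega, by omega⟩
          · left
            refine le_trans (Nat.pow_le_pow_left (show T ≤ 26208 by omega) 4) ?_
            exact le_trans (b := 3 ^ 42) (by norm_num) (Nat.pow_le_pow_right (by norm_num) (by omega))
        · left
          refine le_trans (Nat.pow_le_pow_left hT2 4) (le_trans ?_ (Nat.pow_le_pow_right (by omega) (show 30 ≤ 3 * e by omega)))
          interval_cases Q <;> norm_num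
      · left
        have h3 : T ≤ Q ^ 6 := by
          have h4 : 13104 ≤ 2 * Q ^ 4 :=
            le_trans (by norm_num : 13104 ≤ 2 * 9 ^ 4) (Nat.mul_le_mul_left 2 (Nat.pow_le_pow_left h9 4))
          calc T ≤ δ * z * 13104 := hT'
            _ ≤ δ * z * (2 * Q ^ 4) := Nat.mul_le_mul_left _ h4
            _ = (2 * δ) * z * Q ^ 4 := by ring
            _ ≤ Q * Q * Q ^ 4 := Nat.mul_le_mul_right _ (Nat.mul_le_mul hδQ (hz'.trans (Nat.sub_le _ _)))
            _ = Q ^ 6 := by ring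
        calc T ^ 4 ≤ (Q ^ 6) ^ 4 := Nat.pow_le_pow_left h3 4
          _ = Q ^ 24 := by ring
          _ ≤ Q ^ (3 * e) := Nat.pow_le_pow_right (by omega) (by omega)
  · -- n = 3
    left
    rcases hr with rfl | rfl
    · have h3 := hdvd 3 Nat.prime_three dvd_rfl
      refine count_ok hTb (q := 4) (by omega) (by omega) (le_trans (b := 16 * 4 ^ 28) (by norm_num) ?_)
      exact Nat.mul_le_mul_left _ (Nat.pow_le_pow_right (by norm_num) (by omega))
    · have h2 := h2r rfl
      have h3 := hdvd 3 Nat.prime_three (by norm_num)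
      rcases Nat.lt_or_ge Q 8 with h | h
      · obtain rfl : Q = 7 := by omega
        have := hB (by norm_num)
        refine count_ok hTb (q := 7) le_rfl (by omega) (le_trans (b := 16 * 7 ^ 37) (by norm_num) ?_)
        exact Nat.mul_le_mul_left _ (Nat.pow_le_pow_right (by norm_num) (by omega))
      · refine count_ok hTb (q := 8) h (by omega) (le_trans (b := 16 * 8 ^ 28) (by norm_num) ?_)
        exact Nat.mul_le_mul_left _ (Nat.pow_le_pow_right (by norm_num) (by omega))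
  · -- n = 4
    left
    rcases hr with rfl | rfl
    · refine count_ok hTb (q := 3) hQ (by omega) (le_trans (b := 16 * 3 ^ 40) (by norm_num) ?_)
      exact Nat.mul_le_mul_left _ (Nat.pow_le_pow_right (by norm_num) (by omega))
    · have hodd := h2r rfl
      rcases Nat.lt_or_ge Q 5 with h | h
      · obtain rfl : Q = 3 := by omega
        have hB' := hB Nat.prime_three
        have hY' : Y ≤ 52428 := by
          have := hY5 2 6 Nat.prime_two (by norm_num)
          norm_num at this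
          omega
        have hT' : T ≤ 2 * (8 * 8) * 52428 := by
          rw [hT]
          refine Nat.mul_le_mul (Nat.mul_le_mul_right _ ?_) hY'
          exact le_trans (Nat.mul_le_mul (hδ1 Nat.prime_three) hz') (by norm_num)
        refine le_trans (Nat.pow_le_pow_left hT' 4) ?_
        exact le_trans (b := 3 ^ 60) (by norm_num) (Nat.pow_le_pow_right (by norm_num) (by omega))
      · refine count_ok hTb (q := 5) h (by omega) (le_trans (b := 16 * 5 ^ 40) (by norm_num) ?_)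
        exact Nat.mul_le_mul_left _ (Nat.pow_le_pow_right (by norm_num) (by omega))

/-- The extraspecial case of degree two with a trivial stabiliser. -/
theorem count_one (hδQ : 2 * δ ≤ Q) (hδ1 : Q.Prime → δ ≤ 1) (hz : z ∣ Q - 1) (hQ : 3 ≤ Q)
    (hY5 : 5 * Y ≤ 2 ^ 6) (hT : T = δ * z * (2 * 2) * Y) (he : 3 ≤ e) :
    T ^ 2 ≤ Q ^ (3 * e) := by
  have hz' : z ≤ Q - 1 := Nat.le_of_dvd (by omega) hz
  have hY : Y ≤ 12 := by norm_num at hY5; omega
  refine le_trans ?_ (Nat.pow_le_pow_right (by omega) (show 9 ≤ 3 * e by omega))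
  rcases Nat.lt_or_ge Q 4 with h | h
  · obtain rfl : Q = 3 := by omega
    have : T ≤ 2 * (2 * 2) * 12 := hT ▸ Nat.mul_le_mul (Nat.mul_le_mul_right _
      (le_trans (Nat.mul_le_mul (hδ1 Nat.prime_three) hz') (by norm_num))) hY
    exact le_trans (Nat.pow_le_pow_left this 2) (by norm_num)
  · have h1 : T ≤ 24 * Q ^ 2 := by
      calc T = δ * z * (2 * 2) * Y := hT
        _ ≤ δ * z * (2 * 2) * 12 := Nat.mul_le_mul_left _ hY
        _ = (2 * δ) * z * 24 := by ring
        _ ≤ Q * Q * 24 := Nat.mul_le_mul_right _ (Nat.mul_le_mul hδQ (hz'.trans (Nat.sub_le _ _)))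
        _ = _ := by ring
    calc T ^ 2 ≤ (24 * Q ^ 2) ^ 2 := Nat.pow_le_pow_left h1 2
      _ = 576 * Q ^ 4 := by ring
      _ ≤ Q ^ 5 * Q ^ 4 := Nat.mul_le_mul_right _
          (le_trans (by norm_num : 576 ≤ 4 ^ 5) (Nat.pow_le_pow_left h 5))
      _ = Q ^ 9 := by ring

end Cfsg.Lib.SolvBase
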