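import Cfsg.Agent.SolvBase.Basic
import Cfsg.Agent.Presentations.BinaryIcosahedral

/-!
A solvable group with a regular triple has at least five regular orbits on triples.
-/

set_option autoImplicit false
set_option linter.unusedSectionVars false

namespace Cfsg.Lib.SolvBase

open Cfsg.Lib.OddBase
open scoped commutatorElement

universe u v

variable {H : Type u} [Group H] {U : Type v} [AddCommGroup U] [DistribMulAction H U]

/-- Five triples in different regular orbits. -/
def FiveOrbits (H : Type u) (U : Type v) [Group H] [AddCommGroup U] [DistribMulAction H U] : Prop :=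
  ∃ f : Fin 5 → U × U × U, (∀ i, ∀ g : H, g • f i = f i → g = 1) ∧
    ∀ i j, ∀ g : H, g • f i = f j → i = j

/-- Five orbits from a regular pair. -/
theorem five_of_pair [Finite U] [Nontrivial U] [FaithfulSMul H U] {v w : U} (hv : v ≠ 0)
    (hreg : ∀ g : H, g • v = v → g • w = w → g = 1) : FiveOrbits H U := by
  classical
  obtain ⟨y, hy, hyv⟩ : ∃ y : Fin 4 → U × U, Function.Injective y ∧
      ∀ i j, ∀ g : H, g • (v, y i) = (v, y j) → g = 1 := by
    haveI := Fintype.ofFinite U
    by_cases h4 : 4 ≤ Fintype.card U
    · let e : Fin 4 → U := fun i => (Fintype.equivFin U).symm (Fin.castLE h4 i)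
      refine ⟨fun i => (w, e i), fun i j h => ?_, fun i j g h => hreg g (congrArg Prod.fst h)
        (congrArg (fun t : U × U × U => t.2.1) h)⟩
      exact Fin.castLE_injective _ ((Fintype.equivFin U).symm.injective (congrArg Prod.snd h))
    · have hc : (Fintype.card U).Prime := by
        have h1 : 1 < Fintype.card U := Fintype.one_lt_card
        have h2 : Fintype.card U < 4 := by omega
        interval_cases Fintype.card U <;> norm_num
      haveI := Fact.mk hc
      have hgen : ∀ g : H, g • v = v → g = 1 := by
        intro g hg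
        refine eq_of_smul_eq_smul fun x : U => ?_
        obtain ⟨k, rfl⟩ := mem_zmultiples_of_prime_card
          (p := Fintype.card U) Nat.card_eq_fintype_card hv (g' := x)
        rw [one_smul]
        have h2 := map_zsmul (DistribSMul.toAddMonoidHom U g) k v
        simp only [DistribSMul.toAddMonoidHom_apply, hg] at h2
        exact h2
      have h4' : 4 ≤ Fintype.card (U × U) := by
        rw [Fintype.card_prod]
        exact (by norm_num : 4 ≤ 2 * 2).trans (Nat.mul_le_mul hc.two_le hc.two_le)
      exact ⟨fun i => (Fintype.equivFin (U × U)).symm (Fin.castLE h4' i),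
        fun i j h => Fin.castLE_injective _ ((Fintype.equivFin (U × U)).symm.injective h),
        fun i j g h => hgen g (congrArg Prod.fst h)⟩
  refine ⟨fun i => if h : (i : ℕ) < 4 then (v, y ⟨i, h⟩) else (0, v, w), fun i g hg => ?_,
    fun i j g hg => ?_⟩
  · by_cases h : (i : ℕ) < 4
    · simp only [dif_pos h] at hg
      exact hyv _ _ g hg
    · simp only [dif_neg h] at hg
      exact hreg g (congrArg (fun t : U × U × U => t.2.1) hg) (congrArg (fun t : U × U × U => t.2.2) hg)
  · by_cases hi : (i : ℕ) < 4 <;> by_cases hj : (j : ℕ) < 4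
    · simp only [dif_pos hi, dif_pos hj] at hg
      rw [hyv _ _ g hg, one_smul] at hg
      exact Fin.ext (Fin.mk.inj_iff.1 (hy (congrArg Prod.snd hg)))
    · simp only [dif_pos hi, dif_neg hj] at hg
      have hg1 : g • v = 0 := congrArg Prod.fst hg
      exact absurd ((smul_eq_zero_iff_eq g).1 hg1) hv
    · simp only [dif_neg hi, dif_pos hj] at hg
      have hg1 : g • (0 : U) = v := congrArg Prod.fst hg
      rw [smul_zero] at hg1
      exact absurd hg1.symm hv
    · exact Fin.ext (by have := i.2; have := j.2; omega)

/-- The elementary matrix as a unit. -/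
noncomputable def elem (p : ℕ) (i j : Fin 3) : GL (Fin 3) (ZMod p) :=
  if h : i ≠ j then
    ⟨Matrix.transvection i j 1, Matrix.transvection i j (-1),
      by simp [Matrix.transvection_mul_transvection_same, h, Matrix.transvection_zero],
      by simp [Matrix.transvection_mul_transvection_same, h, Matrix.transvection_zero]⟩
  else 1

theorem elem_commutator (p : ℕ) {i j k : Fin 3} (hij : i ≠ j) (hjk : j ≠ k) (hik : i ≠ k) :
    elem p i j * elem p j k = elem p i k * (elem p j k * elem p i j) := by
  apply Units.ext
  simp only [elem, dif_pos hij, dif_pos hjk, dif_pos hik, Units.val_mul, Matrix.transvection]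
  simp [Matrix.add_mul, Matrix.mul_add, hij, hjk, hik, hij.symm, hjk.symm, hik.symm]
  abel

/-- A homomorphism to a solvable group kills the elementary matrices. -/
theorem map_elem_eq_one (p : ℕ) {G : Type*} [Group G] [Group.IsSolvable G]
    (T : Subgroup (GL (Fin 3) (ZMod p))) (hT : ∀ i j : Fin 3, elem p i j ∈ T) (f : T →* G)
    (i j : Fin 3) : f ⟨elem p i j, hT i j⟩ = 1 := by
  obtain ⟨m, hm⟩ := (inferInstance : Group.IsSolvable G).solvable
  have key : ∀ n, ∀ i j : Fin 3, f ⟨elem p i j, hT i j⟩ ∈ derivedSeries G n := by
    intro n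
    induction n with
    | zero => intro i j; rw [derivedSeries_zero]; trivial
    | succ n ih =>
      intro i j
      by_cases hij : i = j
      · rw [show (⟨elem p i j, hT i j⟩ : T) = 1 from Subtype.ext (by simp [elem, hij]), map_one]
        exact one_mem _
      obtain ⟨k, hki, hkj⟩ : ∃ k : Fin 3, k ≠ i ∧ k ≠ j := by
        clear hm ih
        revert i j; decide
      have h1 : (⟨elem p i j, hT i j⟩ : T) =
          ⁅(⟨elem p i k, hT i k⟩ : T), (⟨elem p k j, hT k j⟩ : T)⁆ := by
        apply Subtype.ext
        change elem p i j = elem p i k * elem p k j * (elem p i k)⁻¹ * (elem p k j)⁻¹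
        rw [elem_commutator p hki.symm hkj hij]
        group
      rw [h1, map_commutatorElement, derivedSeries_succ]
      exact Subgroup.commutator_mem_commutator (ih i k) (ih k j)
  have := key m i j
  rwa [hm, Subgroup.mem_bot] at this

/-- A solvable subgroup of `GL 3 p` has at least five cosets. -/
theorem five_le_index (p : ℕ) [Fact p.Prime] (T : Subgroup (GL (Fin 3) (ZMod p)))
    [Group.IsSolvable T] : 5 ≤ T.index := by
  by_contra hlt
  have hT : ∀ i j : Fin 3, elem p i j ∈ T := by
    intro i j
    haveI : Group.IsSolvable (Equiv.Perm (GL (Fin 3) (ZMod p) ⧸ T)) := by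
      refine Cfsg.Lib.Presentations.isSolvable_of_card_lt_sixty _ _ rfl ?_
      rw [Nat.card_perm, ← Subgroup.index_eq_card]
      exact lt_of_le_of_lt (Nat.factorial_le (show T.index ≤ 4 by omega)) (by decide)
    have h := map_elem_eq_one p ⊤ (fun _ _ => Subgroup.mem_top _)
      ((MulAction.toPermHom (GL (Fin 3) (ZMod p)) (GL (Fin 3) (ZMod p) ⧸ T)).comp
        (⊤ : Subgroup (GL (Fin 3) (ZMod p))).subtype) i j
    have h2 := Equiv.Perm.congr_fun h (QuotientGroup.mk 1)
    change (QuotientGroup.mk (elem p i j * 1) : GL (Fin 3) (ZMod p) ⧸ T) = QuotientGroup.mk 1 at h2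
    rw [mul_one, QuotientGroup.eq, mul_one] at h2
    exact inv_mem_iff.1 h2
  have h := map_elem_eq_one p T hT (MonoidHom.id T) 0 1
  have h2 := congrArg (fun t : T => ((t : GL (Fin 3) (ZMod p)) : Matrix (Fin 3) (Fin 3) (ZMod p)) 0 1) h
  simp [elem, Matrix.transvection] at h2

variable [Finite U] [Nontrivial U] [FaithfulSMul H U]

/-- A solvable group with a regular triple has five regular orbits on triples. -/
theorem five_orbits [Group.IsSolvable H] (p : ℕ) [Fact p.Prime] (hexp : ∀ x : U, p • x = 0)
    (h : Triple H U) : FiveOrbits H U := by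
  classical
  obtain ⟨x, y, z, hxyz⟩ := h
  have hreg : ∀ g : H, g • x = x → g • y = y → g • z = z → g = 1 := fun g h1 h2 h3 =>
    eq_of_smul_eq_smul fun w : U => (hxyz g h1 h2 h3 w).trans (one_smul H w).symm
  haveI hmod : Module (ZMod p) U := AddCommGroup.zmodModule hexp
  let L : H → (U →ₗ[ZMod p] U) := fun g => (DistribSMul.toAddMonoidHom U g).toZModLinearMap p
  have hL : ∀ (g : H) (w : U), L g w = g • w := fun g w => rfl
  let t : Fin 3 → U := ![x, y, z]
  have hregt : ∀ g : H, (∀ i, g • t i = t i) → g = 1 := fun g hg => hreg g (hg 0) (hg 1) (hg 2)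
  by_cases hli : LinearIndependent (ZMod p) t
  · -- independent: cosets of the stabiliser in `GL 3 p`
    let act3 : (Fin 3 → U) → Matrix (Fin 3) (Fin 3) (ZMod p) → (Fin 3 → U) :=
      fun s M j => ∑ i, M i j • s i
    have hact : ∀ s M N, act3 (act3 s M) N = act3 s (M * N) := by
      intro s M N
      funext j
      simp only [act3, Finset.smul_sum, smul_smul, Matrix.mul_apply, Finset.sum_smul]
      rw [Finset.sum_comm]
      refine Finset.sum_congr rfl fun i _ => Finset.sum_congr rfl fun k _ => ?_
      rw [mul_comm]
    have hact1 : ∀ s, act3 s 1 = s := by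
      intro s; funext j
      simp [act3, Matrix.one_apply]
    have hequiv : ∀ (g : H) s M, g • act3 s M = act3 (g • s) M := by
      intro g s M
      funext j
      change g • (∑ i, M i j • s i) = ∑ i, M i j • (g • s i)
      rw [← hL, map_sum]
      exact Finset.sum_congr rfl fun i _ => by rw [map_smul, hL]
    have huniq : ∀ g g' : H, g • t = g' • t → g = g' := by
      intro g g' he
      have : g'⁻¹ * g = 1 := hregt _ fun i => by
        rw [mul_smul, show g • t i = g' • t i from congrFun he i, inv_smul_smul]
      exact (inv_mul_eq_one.1 this).symm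
    let T : Subgroup (GL (Fin 3) (ZMod p)) :=
      { carrier := {M | ∃ g : H, g • t = act3 t M}
        one_mem' := ⟨1, by rw [one_smul, Units.val_one, hact1]⟩
        mul_mem' := fun {M N} ⟨g, hg⟩ ⟨g', hg'⟩ => ⟨g * g', by
          rw [mul_smul, hg', hequiv, hg, hact, Units.val_mul]⟩
        inv_mem' := fun {M} ⟨g, hg⟩ => ⟨g⁻¹, by
          rw [inv_smul_eq_iff, hequiv, hg, hact, ← Units.val_mul, mul_inv_cancel, Units.val_one,
            hact1]⟩ }
    have hTg : ∀ M : T, ∃ g : H, g • t = act3 t (M : GL (Fin 3) (ZMod p)) := fun M => M.2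
    choose γ hγ using hTg
    have hinj : ∀ M N : Matrix (Fin 3) (Fin 3) (ZMod p), act3 t M = act3 t N → M = N := by
      intro M N he
      ext i j
      exact Fintype.linearIndependent_iffₛ.1 hli (fun k => M k j) (fun k => N k j) (congrFun he j) i
    let φ : T →* H := MonoidHom.mk' γ fun M N => huniq _ _ (by
      rw [hγ, mul_smul, hγ, hequiv, hγ, hact, Subgroup.coe_mul, Units.val_mul])
    haveI : Group.IsSolvable T := Group.isSolvable_of_isSolvable_injective (f := φ) fun M N he => by
      refine Subtype.ext (Units.ext (hinj _ _ ?_))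
      rw [← hγ, ← hγ]
      exact congrArg (· • t) he
    haveI := Fintype.ofFinite (GL (Fin 3) (ZMod p) ⧸ T)
    have h5 : 5 ≤ Fintype.card (GL (Fin 3) (ZMod p) ⧸ T) := by
      rw [← Nat.card_eq_fintype_card, ← Subgroup.index_eq_card]
      exact five_le_index p T
    let q : Fin 5 → GL (Fin 3) (ZMod p) := fun i =>
      ((Fintype.equivFin _).symm (Fin.castLE h5 i)).out
    let f : Fin 5 → (Fin 3 → U) := fun i => act3 t ((q i)⁻¹ : GL (Fin 3) (ZMod p))
    refine ⟨fun i => (f i 0, f i 1, f i 2), fun i g hg => ?_, fun i j g hg => ?_⟩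
    · have hfi : g • f i = f i := by
        funext k
        fin_cases k
        · exact congrArg Prod.fst hg
        · exact congrArg (fun s : U × U × U => s.2.1) hg
        · exact congrArg (fun s : U × U × U => s.2.2) hg
      have h2 : g • t = t := by
        have h3 := congrArg (fun s => act3 s (q i : GL (Fin 3) (ZMod p))) hfi
        simp only [f, hequiv, hact, ← Units.val_mul, inv_mul_cancel, Units.val_one, hact1] at h3
        exact h3
      exact huniq g 1 (by rw [h2, one_smul])
    · have hfi : g • f i = f j := by
        funext k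
        fin_cases k
        · exact congrArg Prod.fst hg
        · exact congrArg (fun s : U × U × U => s.2.1) hg
        · exact congrArg (fun s : U × U × U => s.2.2) hg
      have h3 := congrArg (fun s => act3 s (q i : GL (Fin 3) (ZMod p))) hfi
      simp only [f, hequiv, hact, ← Units.val_mul, inv_mul_cancel, Units.val_one, hact1] at h3
      have hmem : (q j)⁻¹ * q i ∈ T := ⟨g, h3⟩
      have h4 := QuotientGroup.eq.2 hmem
      simp only [q, QuotientGroup.out_eq'] at h4
      exact (Fin.castLE_injective _ ((Fintype.equivFin _).symm.injective h4)).symm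
  · -- dependent: a regular pair
    obtain ⟨c, hc, i, hci⟩ := Fintype.not_linearIndependent_iff.1 hli
    obtain ⟨j, k, hjk⟩ : ∃ j k : Fin 3, ∀ l, l = i ∨ l = j ∨ l = k := by
      clear hci
      revert i; decide
    have hpair : ∀ g : H, g • t j = t j → g • t k = t k → g = 1 := by
      intro g hj hk
      have hoth : ∀ l, l ≠ i → g • t l = t l := fun l hl => by
        rcases hjk l with rfl | rfl | rfl
        · exact absurd rfl hl
        · exact hj
        · exact hk
      refine hregt g fun l => ?_
      by_cases hl : l = i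
      · subst hl
        have h1 := congrArg (L g) hc
        rw [map_sum, map_zero] at h1
        have h2 : c l • (L g (t l) - t l) = 0 := by
          have h3 : ∑ m, c m • (L g (t m) - t m) = 0 := by
            simp only [smul_sub, Finset.sum_sub_distrib, hc, sub_zero]
            rw [← h1]
            exact Finset.sum_congr rfl fun m _ => (map_smul _ _ _).symm
          rwa [Finset.sum_eq_single l (fun m _ hm => by rw [hL, hoth m hm, sub_self, smul_zero])
            (by simp)] at h3
        exact sub_eq_zero.1 ((smul_eq_zero.1 h2).resolve_left hci)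
      · exact hoth l hl
    by_cases hj0 : t j = 0
    · by_cases hk0 : t k = 0
      · obtain ⟨v, hv⟩ := exists_ne (0 : U)
        exact five_of_pair hv (w := 0) fun g _ _ => hpair g (by rw [hj0, smul_zero]) (by rw [hk0, smul_zero])
      · exact five_of_pair hk0 (w := t j) fun g h1 h2 => hpair g h2 h1
    · exact five_of_pair hj0 (w := t k) hpair

/-- Five regular orbits bound the order of the group. -/
theorem five_card [Finite H] (h : FiveOrbits H U) : 5 * Nat.card H ≤ Nat.card U ^ 3 := by
  obtain ⟨f, hf, hne⟩ := h
  have hinj : Function.Injective fun s : Fin 5 × H => s.2 • f s.1 := by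
    rintro ⟨i, g⟩ ⟨j, g'⟩ he
    change g • f i = g' • f j at he
    have h1 : (g'⁻¹ * g) • f i = f j := by rw [mul_smul, he, inv_smul_smul]
    obtain rfl := hne i j _ h1
    exact Prod.ext rfl (inv_mul_eq_one.1 (hf i _ h1)).symm
  have := Nat.card_le_card_of_injective _ hinj
  rw [Nat.card_prod, Nat.card_prod, Nat.card_prod, Nat.card_fin] at this
  exact this.trans (le_of_eq (by ring))

end Cfsg.Lib.SolvBase
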