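import Cfsg.Agent.OddBase.Pairing
import Cfsg.Agent.SolvBase.Five

/-!
The index of the socle in the centraliser is bounded by the triples of the socle quotient.
-/

set_option autoImplicit false
set_option linter.unusedSectionVars false

namespace Cfsg.Lib.SolvBase

open Subgroup Cfsg.Lib.OddBase

universe u

variable {A : Type u} [Group A] [Finite A] [Group.IsSolvable A] {Z : Subgroup A} [Z.Normal]
  [IsMulCommutative Z] {K : Type u} [Field K]

/-- The index of the socle in the centraliser. -/
theorem socle_bound {N : ℕ} (hb : Below3.{u} N) (hN : Nat.card A ≤ N)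
    {ι : Z →* Kˣ} (hι : Function.Injective ι) (hmax : MaxAbelian Z)
    (hne : ¬ Subgroup.centralizer (Z : Set A) ≤ Z) {r : ℕ}
    (hr : Z.relIndex (socle Z (Subgroup.centralizer (Z : Set A))) = r * r) :
    let Y := (socle Z (Subgroup.centralizer (Z : Set A))).relIndex (Subgroup.centralizer (Z : Set A))
    2 ≤ r ∧ Y ≤ r ^ 6 ∧ ∀ q k : ℕ, q.Prime → r * r = q ^ k → 5 * Y ≤ r ^ 6 := by
  classical
  intro Y
  set C := Subgroup.centralizer (Z : Set A) with hC
  set L := socle Z C with hL
  have hZL : Z < L := exists_socle hne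
  have hLC : L ≤ C := socle_le Z C
  have hr1 : r * r ≠ 1 := fun h => not_le_of_gt hZL (Subgroup.relIndex_eq_one.1 (hr.trans h))
  -- the module
  letI : CommGroup (socBar Z C) :=
    { (inferInstance : Group (socBar Z C)) with
      mul_comm := fun x y => Subtype.ext (socBar_comm x.2 y.2) }
  haveI : (socBar Z C).Normal :=
    Subgroup.Normal.map (socle_normal Z C) _ (QuotientGroup.mk'_surjective Z)
  let W := Additive (socBar Z C)
  let φ : A →* MulAut (socBar Z C) := MulAut.conjNormal.comp (QuotientGroup.mk' Z)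
  letI : DistribMulAction A W :=
    { smul := fun a x => Additive.ofMul (φ a (Additive.toMul x))
      one_smul := fun x => by
        change Additive.ofMul (φ 1 (Additive.toMul x)) = x
        rw [map_one]; rfl
      mul_smul := fun a b x => by
        change Additive.ofMul (φ (a * b) (Additive.toMul x)) =
          Additive.ofMul (φ a (φ b (Additive.toMul x)))
        rw [map_mul]; rfl
      smul_zero := fun a => congrArg Additive.ofMul (map_one (φ a))
      smul_add := fun a x y => congrArg Additive.ofMul (map_mul (φ a) _ _) }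
  let cl : L → W := fun l => Additive.ofMul ⟨QuotientGroup.mk' Z l, Subgroup.mem_map_of_mem _ l.2⟩
  have hclsurj : Function.Surjective cl := by
    intro x
    obtain ⟨l, hl, hlx⟩ := (Additive.toMul x).2
    exact ⟨⟨l, hl⟩, congrArg Additive.ofMul (Subtype.ext hlx)⟩
  have hclmul : ∀ l m : L, cl (l * m) = cl l + cl m := fun l m => rfl
  have hcl0 : ∀ l : L, cl l = 0 ↔ (l : A) ∈ Z := fun l => by
    constructor
    · intro h
      exact (QuotientGroup.eq_one_iff (l : A)).1 (congrArg Subtype.val (Additive.ofMul.injective h))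
    · intro h
      exact congrArg Additive.ofMul (Subtype.ext ((QuotientGroup.eq_one_iff (l : A)).2 h))
  have hclsmul : ∀ (a : A) (l : L),
      cl ⟨a * l * a⁻¹, (socle_normal Z C).conj_mem _ l.2 a⟩ = a • cl l := fun a l =>
    congrArg Additive.ofMul (Subtype.ext (by
      change _ = ((MulAut.conjNormal (QuotientGroup.mk' Z a) _ : socBar Z C) : A ⧸ Z)
      rw [MulAut.conjNormal_apply]
      rfl))
  have hWcard : Nat.card W = r * r := by
    rw [← hr]
    change Nat.card (socBar Z C) = _
    rw [socBar, ← Subgroup.relIndex_ker, QuotientGroup.ker_mk']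
  haveI : Nontrivial W := by
    rw [← Finite.one_lt_card_iff_nontrivial, hWcard]
    have h0 : r * r ≠ 0 := fun h0 => by
      have := (Nat.card_pos (α := W)).ne'
      rw [hWcard, h0] at this
      exact this rfl
    omega
  have htriv : ∀ a ∈ C, (∀ x : W, a • x = x) → a ∈ L := by
    intro a haC ha
    refine mem_socle hι hmax hne haC fun l hl => ?_
    have h1 := ha (cl ⟨l, hl⟩)
    rw [← hclsmul] at h1
    have h2 := congrArg Subtype.val (Additive.ofMul.injective h1)
    change (QuotientGroup.mk (a * l * a⁻¹) : A ⧸ Z) = QuotientGroup.mk l at h2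
    rw [← QuotientGroup.eq_one_iff]
    rw [QuotientGroup.mk_mul, h2, QuotientGroup.mk_inv, mul_inv_cancel]
  have htrivL : ∀ a ∈ L, ∀ x : W, a • x = x := by
    intro a ha x
    obtain ⟨l, rfl⟩ := hclsurj x
    rw [← hclsmul]
    refine congrArg Additive.ofMul (Subtype.ext ?_)
    change (QuotientGroup.mk (a * (l : A) * a⁻¹) : A ⧸ Z) = QuotientGroup.mk (l : A)
    have hmem := socle_comm (Subgroup.commutator_mem_commutator ha l.2)
    rw [commutatorElement_def] at hmem
    calc (QuotientGroup.mk (a * (l : A) * a⁻¹) : A ⧸ Z)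
        = QuotientGroup.mk (a * (l : A) * a⁻¹ * (l : A)⁻¹ * l) := by rw [inv_mul_cancel_right]
      _ = QuotientGroup.mk (l : A) := by
        rw [QuotientGroup.mk_mul, (QuotientGroup.eq_one_iff _).2 hmem, one_mul]
  -- the image
  let π : A →* (AddMonoid.End W)ˣ := (DistribMulAction.toAddMonoidEnd A W).toHomUnits
  let X := π.range
  have hXsmul : ∀ (a : A) (x : W), (⟨π a, a, rfl⟩ : X) • x = a • x := fun a x => rfl
  haveI : FaithfulSMul X W := ⟨fun {s t} h => Subtype.ext (Units.ext (AddMonoidHom.ext h))⟩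
  haveI : Finite X := Finite.of_surjective _ π.rangeRestrict_surjective
  haveI : Group.IsSolvable X := Group.isSolvable_of_surjective π.rangeRestrict_surjective
  have hXlt : Nat.card X < N := by
    refine lt_of_lt_of_le ?_ hN
    have h1 : π.ker.index = Nat.card X := Subgroup.index_ker π
    have h2 : 1 < Nat.card π.ker := by
      refine (Subgroup.one_lt_card_iff_ne_bot _).2 fun hb => ?_
      have hLk : L ≤ π.ker := fun l hl =>
        Units.ext (AddMonoidHom.ext fun x => htrivL l hl x)
      rw [hb] at hLk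
      exact not_le_of_gt hZL (hLk.trans bot_le)
    rw [← π.ker.card_mul_index, ← h1]
    exact lt_mul_of_one_lt_left (Nat.pos_of_ne_zero π.ker.index_ne_zero_of_finite) h2
  have hcr : CR X W := by
    intro U hU
    have hU' : ∀ a : A, ∀ v ∈ U, a • v ∈ U := fun a v hv => hU ⟨π a, a, rfl⟩ v hv
    let U0 : Subgroup A :=
      { carrier := {x | ∃ h : x ∈ L, cl ⟨x, h⟩ ∈ U}
        one_mem' := ⟨one_mem L, by rw [(hcl0 _).2 (one_mem Z)]; exact zero_mem U⟩
        mul_mem' := fun {x y} hx hy => by
          obtain ⟨hx, hxU⟩ := hx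
          obtain ⟨hy, hyU⟩ := hy
          exact ⟨mul_mem hx hy, by
            rw [show (⟨x * y, mul_mem hx hy⟩ : L) = ⟨x, hx⟩ * ⟨y, hy⟩ from rfl, hclmul]
            exact add_mem hxU hyU⟩
        inv_mem' := fun {x} hx => by
          obtain ⟨hx, hxU⟩ := hx
          refine ⟨inv_mem hx, ?_⟩
          have h0 : cl ⟨x⁻¹, inv_mem hx⟩ + cl ⟨x, hx⟩ = 0 := by
            rw [← hclmul]
            exact (hcl0 _).2 (by simp)
          rw [eq_neg_of_add_eq_zero_left h0]
          exact neg_mem hxU }
    have hU0n : U0.Normal := ⟨fun x hx g => by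
      obtain ⟨hx, hxU⟩ := hx
      exact ⟨(socle_normal Z C).conj_mem x hx g, hclsmul g ⟨x, hx⟩ ▸ hU' g _ hxU⟩⟩
    have hZU : Z ≤ U0 := fun z hz => ⟨hZL.le hz, by rw [(hcl0 _).2 hz]; exact zero_mem U⟩
    have hUL : U0 ≤ L := fun x hx => hx.1
    obtain ⟨T, hTn, hZT, hTL, hTU, hsup⟩ := socle_complement hU0n hZU hUL hZL.le
    let T0 : AddSubgroup W :=
      { carrier := {w | ∃ l : L, (l : A) ∈ T ∧ cl l = w}
        zero_mem' := ⟨1, one_mem T, (hcl0 1).2 (one_mem Z)⟩
        add_mem' := fun {x y} hx hy => by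
          obtain ⟨l, hl, rfl⟩ := hx
          obtain ⟨m, hm, rfl⟩ := hy
          exact ⟨l * m, mul_mem hl hm, hclmul l m⟩
        neg_mem' := fun {x} hx => by
          obtain ⟨l, hl, rfl⟩ := hx
          refine ⟨l⁻¹, inv_mem hl, eq_neg_of_add_eq_zero_left ?_⟩
          rw [← hclmul]
          exact (hcl0 _).2 (by simp) }
    refine ⟨T0, ?_, ?_, ?_⟩
    · rintro ⟨_, a, rfl⟩ w ⟨l, hl, rfl⟩
      exact ⟨⟨_, (socle_normal Z C).conj_mem _ l.2 a⟩, hTn.conj_mem _ hl a,
        (hclsmul a l).trans (hXsmul a _).symm⟩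
    · rw [eq_bot_iff]
      rintro w ⟨hwU, l, hl, rfl⟩
      have : (l : A) ∈ T ⊓ U0 := ⟨hl, l.2, hwU⟩
      rw [hTU] at this
      exact AddSubgroup.mem_bot.2 ((hcl0 l).2 this)
    · rw [eq_top_iff]
      intro w _
      obtain ⟨l, rfl⟩ := hclsurj w
      haveI := hTn
      have hl : (l : A) ∈ ((U0 ⊔ T : Subgroup A) : Set A) := by rw [hsup]; exact l.2
      rw [Subgroup.mul_normal] at hl
      obtain ⟨x, hx, y, hy, hxy⟩ := hl
      obtain ⟨hxL, hxU⟩ := hx
      have : l = ⟨x, hxL⟩ * ⟨y, hTL hy⟩ := Subtype.ext hxy.symm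
      rw [this, hclmul]
      exact AddSubgroup.mem_sup.2 ⟨_, hxU, _, ⟨⟨y, hTL hy⟩, hy, rfl⟩, rfl⟩
  have hYX : Y ≤ Nat.card X := by
    have h1 : π.ker ⊓ C = L := by
      refine le_antisymm (fun a ha => htriv a ha.2 fun x => ?_)
        (le_inf (fun l hl => Units.ext (AddMonoidHom.ext fun x => htrivL l hl x)) hLC)
      exact DFunLike.congr_fun (congrArg Units.val (ha.1 : π a = 1)) x
    change L.relIndex C ≤ _
    rw [← h1, Subgroup.inf_relIndex_right, Subgroup.relIndex_ker]
    exact Nat.card_le_card_of_injective _ (Subgroup.inclusion_injective (Subgroup.map_le_range π C))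
  have hT : Triple X W := hb X W hXlt inferInstance hcr
  -- prime power cases
  have hexp : ∀ q k : ℕ, q.Prime → r * r = q ^ k → ∀ x : W, q • x = 0 := by
    intro q k hq hqk x
    have hcm : ∀ l m : L, Commute ((l : A) : A ⧸ Z) ((m : A) : A ⧸ Z) := fun l m =>
      socBar_comm (Subgroup.mem_map_of_mem _ l.2) (Subgroup.mem_map_of_mem _ m.2)
    let T : Subgroup A :=
      { carrier := {x | x ∈ L ∧ x ^ q ∈ Z}
        one_mem' := ⟨one_mem L, by rw [one_pow]; exact one_mem Z⟩
        mul_mem' := fun {x y} hx hy => ⟨mul_mem hx.1 hy.1, by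
          rw [← QuotientGroup.eq_one_iff, QuotientGroup.mk_pow, QuotientGroup.mk_mul,
            (hcm ⟨x, hx.1⟩ ⟨y, hy.1⟩).mul_pow, ← QuotientGroup.mk_pow, ← QuotientGroup.mk_pow,
            (QuotientGroup.eq_one_iff _).2 hx.2, (QuotientGroup.eq_one_iff _).2 hy.2, mul_one]⟩
        inv_mem' := fun {x} hx => ⟨inv_mem hx.1, by rw [inv_pow]; exact inv_mem hx.2⟩ }
    have hLT : L ≤ T := sSup_le fun M hM y hy => by
      obtain ⟨q', hq', hdvd, hMexp⟩ := layer_exp hM
      have h1 : q' ∣ q ^ k := hqk ▸ hr ▸ hdvd.trans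
        (Dvd.intro _ (Subgroup.relIndex_mul_relIndex Z M L hM.2.1.le (layer_le_socle hM)))
      obtain rfl : q' = q := (Nat.prime_dvd_prime_iff_eq hq' hq).1 (hq'.dvd_of_dvd_pow h1)
      exact ⟨layer_le_socle hM hy, hMexp y hy⟩
    obtain ⟨l, rfl⟩ := hclsurj x
    apply Additive.toMul.injective
    rw [toMul_nsmul, toMul_zero]
    apply Subtype.ext
    rw [Subgroup.coe_pow]
    change ((l : A) : A ⧸ Z) ^ q = 1
    rw [← QuotientGroup.mk_pow, QuotientGroup.eq_one_iff]
    exact (hLT l.2).2
  refine ⟨?_, ?_, fun q k hq hqk => ?_⟩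
  · rcases Nat.lt_or_ge r 2 with h | h
    · interval_cases r
      · exact absurd hWcard (Nat.card_pos (α := W)).ne'
      · exact absurd rfl hr1
    · exact h
  · obtain ⟨v, w, z, hvw⟩ := hT
    have hinj : Function.Injective fun g : X => (g • v, g • w, g • z) := by
      intro g g' he
      have e1 : g • v = g' • v := congrArg Prod.fst he
      have e2 : g • w = g' • w := congrArg (fun t : W × W × W => t.2.1) he
      have e3 : g • z = g' • z := congrArg (fun t : W × W × W => t.2.2) he
      have h := hvw (g'⁻¹ * g) (by rw [mul_smul, e1, inv_smul_smul])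
        (by rw [mul_smul, e2, inv_smul_smul]) (by rw [mul_smul, e3, inv_smul_smul])
      exact eq_of_smul_eq_smul fun x : W => by
        have := h x
        rwa [mul_smul, inv_smul_eq_iff] at this
    have h := Nat.card_le_card_of_injective _ hinj
    rw [Nat.card_prod, Nat.card_prod, hWcard] at h
    exact hYX.trans (h.trans (le_of_eq (by ring)))
  · haveI : Fact q.Prime := ⟨hq⟩
    have h := five_card (five_orbits q (hexp q k hq hqk) hT)
    rw [hWcard] at h
    exact (Nat.mul_le_mul_left 5 hYX).trans (h.trans (le_of_eq (by ring)))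

end Cfsg.Lib.SolvBase
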