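import Cfsg.Agent.OddBase.Primitive
import Cfsg.Agent.SolvBase.SocleBound
import Cfsg.Agent.SolvBase.Options
import Cfsg.Agent.SolvBase.Arith

/-!
The primitive case of the theorem on triples.
-/

set_option autoImplicit false
set_option linter.unusedSectionVars false

namespace Cfsg.Lib.SolvBase

open Cfsg.Lib.OddBase

universe u

variable {A V : Type u} [Group A] [Finite A] [AddCommGroup V] [Finite V] [DistribMulAction A V]
  [FaithfulSMul A V] {Z : Subgroup A} [IsMulCommutative Z]

/-- Elements whose translates by `w` have nearly disjoint fixed spaces. -/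
theorem triple_of_pairs (w : A) (hw : Nat.card (fixS A V w) = 1) (hw' : Nat.card (fixS A V w⁻¹) = 1)
    {q e S M : ℕ} (hV : Nat.card V = q ^ e) (hS : S ^ 2 = Nat.card V)
    (hM : ∀ a : A, a ≠ 1 → Nat.card (fixS A V a) ≤ M)
    (hA : Nat.card A * (M ^ 3 + S ^ 3) < 2 * (q ^ e) ^ 3) : Triple A V := by
  classical
  haveI := Fintype.ofFinite A
  refine triple_of_sum ?_
  simp only [card_fixS]
  set g : A → ℕ := fun a => if a = 1 then 0 else Nat.card (fixS A V a) ^ 3 with hg
  have hsum : ∑ a ∈ Finset.univ.erase (1 : A), Nat.card (fixS A V a) ^ 3 = ∑ a, g a := by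
    rw [← Finset.add_sum_erase Finset.univ g (Finset.mem_univ 1)]
    simp only [hg, if_true, zero_add]
    exact Finset.sum_congr rfl fun a ha => by rw [if_neg (Finset.ne_of_mem_erase ha)]
  have hpair : ∀ a : A, g a + g (w * a) ≤ M ^ 3 + S ^ 3 := by
    intro a
    have hS1 : 1 ≤ S := by
      rcases Nat.eq_zero_or_pos S with h | h
      · have := Nat.card_pos (α := V)
        rw [h] at hS; simp at hS; omega
      · exact h
    by_cases ha : a = 1
    · subst ha
      simp only [hg, if_true, mul_one, zero_add]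
      split_ifs
      · exact Nat.zero_le _
      · rw [hw, one_pow]; exact le_add_left (Nat.one_le_pow _ _ hS1)
    by_cases hwa : w * a = 1
    · have : a = w⁻¹ := eq_inv_of_mul_eq_one_right hwa
      subst this
      simp only [hg, if_neg ha, hwa, if_true, hw', one_pow, add_zero]
      exact le_add_left (Nat.one_le_pow _ _ hS1)
    simp only [hg, if_neg ha, if_neg hwa]
    set F := Nat.card (fixS A V a)
    set F' := Nat.card (fixS A V (w * a))
    have hprod : F * F' ≤ S ^ 2 := by
      rw [hS, ← Nat.card_prod]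
      refine Nat.card_le_card_of_injective (fun p : fixS A V a × fixS A V (w * a) => (p.1 : V) + p.2) ?_
      intro p p' h
      change (p.1 : V) + p.2 = p'.1 + p'.2 at h
      have h1 : (p.1 : V) - p'.1 = p'.2 - p.2 := by
        rw [sub_eq_sub_iff_add_eq_add, h, add_comm]
      have hx : (p.1 : V) - p'.1 ∈ fixS A V a := sub_mem p.1.2 p'.1.2
      have hy : (p.1 : V) - p'.1 ∈ fixS A V (w * a) := h1 ▸ sub_mem p'.2.2 p.2.2
      have hy' : (w * a) • ((p.1 : V) - p'.1) = (p.1 : V) - p'.1 := hy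
      rw [mul_smul, show a • ((p.1 : V) - p'.1) = (p.1 : V) - p'.1 from hx] at hy'
      have h0 : (p.1 : V) - p'.1 = 0 := by
        haveI : Subsingleton (fixS A V w) := (Nat.card_eq_one_iff_unique.1 hw).1
        exact congrArg Subtype.val (Subsingleton.elim (⟨_, hy'⟩ : fixS A V w) 0)
      rw [sub_eq_zero] at h0
      rw [h0] at h
      exact Prod.ext (Subtype.ext h0) (Subtype.ext (add_left_cancel h))
    rcases le_or_gt F S with h | h
    · rw [add_comm]
      exact Nat.add_le_add (Nat.pow_le_pow_left (hM _ hwa) 3) (Nat.pow_le_pow_left h 3)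
    · have h' : F' ≤ S := by
        by_contra hc
        have := Nat.mul_lt_mul'' h (not_le.1 hc)
        rw [← pow_two] at this
        omega
      exact Nat.add_le_add (Nat.pow_le_pow_left (hM _ ha) 3) (Nat.pow_le_pow_left h' 3)
  have h2 : 2 * ∑ a, g a ≤ Nat.card A * (M ^ 3 + S ^ 3) := by
    have e : ∑ a, g (w * a) = ∑ a, g a := Equiv.sum_comp (Equiv.mulLeft w) g
    rw [two_mul]
    conv_lhs => arg 2; rw [← e]
    rw [← Finset.sum_add_distrib, Nat.card_eq_fintype_card]
    exact (Finset.sum_le_card_nsmul _ _ _ fun a _ => hpair a).trans (le_of_eq (by simp))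
  have hV3 : Nat.card V ^ 3 = (q ^ e) ^ 3 := by rw [hV]
  omega

/-- The semilinear case, with an abstract field. -/
theorem triple_semilinear {N : ℕ} (hb : Below3.{u} N) (hN : Nat.card A ≤ N)
    [Group.IsSolvable A] [Nontrivial V] [Z.Normal] {K : Type u} [Field K] [Finite K] [Module K V]
    (hmax : MaxAbelian Z) (hf : ∀ k ∈ alg A V Z, k ≠ 0 → ∃ l ∈ alg A V Z, k * l = 1)
    {ι : Z →* Kˣ} (hι : Function.Injective ι)
    (hιv : ∀ (z : Z) (v : V), ((ι z : Kˣ) : K) • v = (z : A) • v)
    (σ : A →* RingAut K) (hσ : σ.ker = Subgroup.centralizer (Z : Set A))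
    (hsemi : ∀ (g : A) (k : K) (v : V), g • (k • v) = σ g k • (g • v)) : Triple A V := by
  classical
  obtain ⟨θ, hθ⟩ := IsCyclic.exists_generator (α := Kˣ)
  set e := Module.finrank K V with he
  rcases Nat.lt_or_ge e 3 with he3 | he3
  · exact triple_small hsemi hθ (by omega)
  set C := Subgroup.centralizer (Z : Set A) with hC
  have hZC : Z ≤ C := le_centralizer_self Z
  have hcomm : ∀ g ∈ C, ∀ (k : K) (v : V), g • (k • v) = k • (g • v) := fun g hg k v => by
    rw [hsemi, show σ g = 1 from MonoidHom.mem_ker.1 (hσ ▸ hg)]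
    rfl
  obtain ⟨p, hchar⟩ := CharP.exists K
  have hp : p.Prime := CharP.char_is_prime K p
  haveI : Fact p.Prime := ⟨hp⟩
  letI : Algebra (ZMod p) K := ZMod.algebra K p
  set Q := Nat.card K with hQ
  set d := Module.finrank (ZMod p) K with hd
  have hQd : Q = p ^ d := by
    rw [hQ, Module.natCard_eq_pow_finrank (K := ZMod p), Nat.card_zmod]
  have hV : Nat.card V = Q ^ e := Module.natCard_eq_pow_finrank
  have hQ2 : 2 ≤ Q := Finite.one_lt_card
  have hzQ : Nat.card Z ∣ Q - 1 := by
    rw [hQ, ← Nat.card_units]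
    exact Subgroup.card_dvd_of_injective ι hι
  have hzle : Nat.card Z ≤ Q - 1 := Nat.le_of_dvd (by omega) hzQ
  set δ := C.index with hδ
  have hδd : δ ≤ d := by
    rw [hδ, ← hσ, Subgroup.index_ker, hd, ← IsGalois.card_aut_eq_finrank]
    haveI : Finite (K ≃ₐ[ZMod p] K) := Finite.of_injective _ DFunLike.coe_injective
    refine Nat.card_le_card_of_injective (fun r : σ.range => AlgEquiv.ofRingEquiv (f := r.1)
      (fun x => RingHom.congr_fun
        (Subsingleton.elim (r.1.toRingHom.comp (algebraMap (ZMod p) K)) _) x)) ?_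
    intro r r' h
    exact Subtype.ext (RingEquiv.ext fun k => AlgEquiv.congr_fun h k)
  have hδQ : 2 * δ ≤ Q := by
    rw [hQd]; exact (by omega : 2 * δ ≤ 2 * d).trans (two_mul_le_pow hp.two_le)
  have hδ1 : Q.Prime → δ ≤ 1 := fun hQp => by
    have : d = 1 := Nat.Prime.eq_one_of_pow (hQd ▸ hQp)
    omega
  have hcard : Nat.card A = δ * Nat.card C := by rw [mul_comm, hδ, C.card_mul_index]
  have hfix1 : ∀ a ∈ Z, a ≠ 1 → Nat.card (fixS A V a) = 1 := fun a ha ha1 => card_fix_one hf ha ha1
  by_cases hne : C ≤ Z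
  · -- the centraliser is `Z`
    have hCZ : C = Z := le_antisymm hne hZC
    refine triple_of_pair (pair_of_count fun a ha => ?_)
    rw [card_fixS]
    have h1 : Nat.card (fixS A V a) ^ 2 ≤ Nat.card V := by
      by_cases haZ : a ∈ Z
      · rw [hfix1 a haZ ha, one_pow]; exact Nat.card_pos
      · exact fix_outside hf (fun h => haZ (hne h))
    have h2 : Nat.card A ≤ Nat.card V := by
      rw [hcard, hCZ, hV]
      calc δ * Nat.card Z ≤ Q * Q := Nat.mul_le_mul (by omega) (by omega)
        _ = Q ^ 2 := (pow_two Q).symm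
        _ ≤ Q ^ e := Nat.pow_le_pow_right (by omega) (by omega)
    calc _ ≤ Nat.card V * Nat.card V := Nat.mul_le_mul h1 h2
      _ = _ := (pow_two _).symm
  obtain ⟨r, hr⟩ := socle_index_square hι hmax hne
  obtain ⟨hr2, hY, hY5⟩ := socle_bound hb hN hι hmax hne hr
  set L := socle Z C with hL
  set Y := L.relIndex C with hYdef
  have hLC : L ≤ C := socle_le Z C
  have hZL : Z < L := exists_socle hne
  have hT : Nat.card A = δ * Nat.card Z * (r * r) * Y := by
    rw [hcard, ← Subgroup.relIndex_bot_left C, ← Subgroup.relIndex_mul_relIndex ⊥ L C bot_le hLC,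
      ← Subgroup.relIndex_mul_relIndex ⊥ Z L bot_le hZL.le, Subgroup.relIndex_bot_left, hr]
    ring
  have hprime : ∀ s, s.Prime → s ∣ r → s ∣ Nat.card Z := fun s hs hsr =>
    prime_dvd_card hι hmax hne s hs (hr ▸ hsr.mul_right r)
  obtain ⟨s, hs, hsr⟩ := Nat.exists_prime_and_dvd (n := r) (by omega)
  have hz2 : 2 ≤ Nat.card Z := hs.two_le.trans (Nat.le_of_dvd Nat.card_pos (hprime s hs hsr))
  have hQ3 : 3 ≤ Q := by omega
  have hθ1 : θ ≠ 1 := by
    rintro rfl
    have h1 : Nat.card Kˣ ≤ 1 := by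
      rw [← orderOf_eq_card_of_forall_mem_zpowers hθ, orderOf_one]
    rw [Nat.card_units] at h1
    omega
  obtain ⟨F, hedim, hrn, hone⟩ := exists_frame hι hιv hcomm hmax hne hr
  rw [← he] at hedim
  set n := Nat.card F.I with hn
  set e₀ := Module.finrank K F.E with he₀
  have hn0 : 1 ≤ n := Nat.card_pos
  -- the short constructions
  obtain ⟨c, hc1, hcr, hm, hm2⟩ := exists_rigid F.I
  set m := (Finset.univ.filter fun i => c i ≠ 0).card with hmdef
  rcases Nat.lt_or_ge e₀ 2 with h0 | h0
  · refine triple_of_line hsemi hθ hθ1 F ?_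
    rcases Nat.eq_zero_or_pos e₀ with h | h
    · rw [h, mul_zero] at hedim; omega
    · omega
  by_cases hoptA : e₀ + m ≤ n + 1
  · exact triple_of_slots hsemi hθ F hc1 hcr (d := e₀ - 2) (by omega) (by omega)
  by_cases hoptB : Q.Prime ∧ e₀ + m ≤ n + 2
  · exact triple_of_slots_prime hsemi hoptB.1 F hc1 hcr (d := e₀ - 3) (by omega) (by omega)
  -- counting
  have hcentre : ∀ g ∈ L, g ∉ Z → ∃ l ∈ L, g * l * g⁻¹ * l⁻¹ ∈ Z ∧ g * l * g⁻¹ * l⁻¹ ≠ 1 := by
    intro g hg hgZ
    obtain ⟨l, hl, hlg⟩ : ∃ l ∈ L, l * g ≠ g * l := by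
      by_contra hc
      push Not at hc
      exact hgZ ((socle_center hmax hne).le ⟨hg, Subgroup.mem_centralizer_iff.2 hc⟩)
    refine ⟨l, hl, socle_comm (Subgroup.commutator_mem_commutator hg hl), fun h1 => ?_⟩
    rw [mul_inv_eq_one, mul_inv_eq_iff_eq_mul] at h1
    exact hlg h1.symm
  have hsqL : ∀ g ∈ L, g ≠ 1 → Nat.card (fixS A V g) ^ 2 ≤ Nat.card V := by
    intro g hg hg1
    by_cases hgZ : g ∈ Z
    · rw [hfix1 g hgZ hg1, one_pow]; exact Nat.card_pos
    obtain ⟨l, -, hlZ, hl1⟩ := hcentre g hg hgZ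
    have := fix_commutator_le (V := V) g l
    rwa [hfix1 _ hlZ hl1, mul_one] at this
  have hout : ∀ a : A, a ∈ C → a ∉ L → ∃ h ∈ L, h ∉ Z ∧
      Nat.card (fixS A V a) ^ 2 ≤ Nat.card V * Nat.card (fixS A V h) := by
    intro a haC haL
    obtain ⟨l, hl, hlZ⟩ : ∃ l ∈ L, a * l * a⁻¹ * l⁻¹ ∉ Z := by
      by_contra hc
      push Not at hc
      exact haL (mem_socle hι hmax hne haC hc)
    exact ⟨_, mul_mem ((socle_normal Z C).conj_mem l hl a) (inv_mem hl), hlZ, fix_commutator_le a l⟩
  have hV1 : 1 ≤ Nat.card V := Nat.card_pos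
  rcases Nat.lt_or_ge n 2 with hn2 | hn2
  · -- trivial stabilisers
    have hn1 : n = 1 := by omega
    have hr2' : r = 2 := by omega
    have hsq : ∀ a : A, a ≠ 1 → Nat.card (fixS A V a) ^ 2 ≤ Nat.card V := by
      intro a ha
      by_cases haC : a ∈ C
      · by_cases haL : a ∈ L
        · exact hsqL a haL ha
        obtain ⟨h, hhL, hhZ, hle⟩ := hout a haC haL
        have h1 : Nat.card (fixS A V h) = 1 := by
          have : fixS A V h = ⊥ := (AddSubgroup.eq_bot_iff_forall _).2 fun v hv =>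
            hone hn1 ⟨h, hhL⟩ (fun he => hhZ (by rw [show h = 1 from congrArg Subtype.val he]; exact one_mem Z)) v hv
          rw [this]
          exact AddSubgroup.card_bot
        rwa [h1, mul_one] at hle
      · exact fix_outside hf haC
    refine triple_of_count fun a ha => (Nat.pow_le_pow_iff_left (n := 2) (by norm_num)).1 ?_
    rw [card_fixS]
    have hTsq : Nat.card A ^ 2 ≤ Nat.card V ^ 3 := by
      subst hr2'
      rw [hV, ← pow_mul, mul_comm e 3]
      exact count_one hδQ hδ1 hzQ hQ3 (hY5 2 2 Nat.prime_two (by norm_num)) hT he3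
    calc (Nat.card (fixS A V a) ^ 3 * Nat.card A) ^ 2
        = (Nat.card (fixS A V a) ^ 2) ^ 3 * Nat.card A ^ 2 := by ring
      _ ≤ Nat.card V ^ 3 * Nat.card V ^ 3 := Nat.mul_le_mul (Nat.pow_le_pow_left (hsq a ha) 3) hTsq
      _ = (Nat.card V ^ 3) ^ 2 := by ring
  have hfour : ∀ a : A, a ≠ 1 → Nat.card (fixS A V a) ^ 4 ≤ Nat.card V ^ 3 := by
    intro a ha
    have hsmall : Nat.card (fixS A V a) ^ 2 ≤ Nat.card V →
        Nat.card (fixS A V a) ^ 4 ≤ Nat.card V ^ 3 := fun h =>
      calc Nat.card (fixS A V a) ^ 4 = (Nat.card (fixS A V a) ^ 2) ^ 2 := by ring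
        _ ≤ Nat.card V ^ 2 := Nat.pow_le_pow_left h 2
        _ ≤ Nat.card V ^ 3 := Nat.pow_le_pow_right hV1 (by norm_num)
    by_cases haC : a ∈ C
    · by_cases haL : a ∈ L
      · exact hsmall (hsqL a haL ha)
      obtain ⟨h, hhL, hhZ, hle⟩ := hout a haC haL
      have h2 := hsqL h hhL (fun he => hhZ (he.symm ▸ one_mem Z))
      calc Nat.card (fixS A V a) ^ 4 = (Nat.card (fixS A V a) ^ 2) ^ 2 := by ring
        _ ≤ (Nat.card V * Nat.card (fixS A V h)) ^ 2 := Nat.pow_le_pow_left hle 2
        _ = Nat.card V ^ 2 * Nat.card (fixS A V h) ^ 2 := by ring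
        _ ≤ Nat.card V ^ 2 * Nat.card V := Nat.mul_le_mul_left _ h2
        _ = _ := by ring
    · exact hsmall (fix_outside hf haC)
  have hcases := count_cases (m := m) (e₀ := e₀) hδQ hδ1 hzQ hQ3 hprime hY hY5 hT hn2
    (hrn.imp id And.left) hm hm2 hedim (by omega) (fun hQp => by
      have : ¬ e₀ + m ≤ n + 2 := fun h => hoptB ⟨hQp, h⟩
      omega)
  rcases hcases with h4 | ⟨hQ3', hT', he'⟩
  · refine triple_of_count fun a ha => (Nat.pow_le_pow_iff_left (n := 4) (by norm_num)).1 ?_
    rw [card_fixS]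
    calc (Nat.card (fixS A V a) ^ 3 * Nat.card A) ^ 4
        = (Nat.card (fixS A V a) ^ 4) ^ 3 * Nat.card A ^ 4 := by ring
      _ ≤ (Nat.card V ^ 3) ^ 3 * Nat.card V ^ 3 := by
          refine Nat.mul_le_mul (Nat.pow_le_pow_left (hfour a ha) 3) ?_
          rwa [hV, ← pow_mul, mul_comm e 3]
      _ = (Nat.card V ^ 3) ^ 4 := by ring
  · -- three elements, degree two
    obtain ⟨w, hw, hw1⟩ : ∃ w ∈ Z, w ≠ 1 := by
      haveI : Nontrivial Z := Finite.one_lt_card_iff_nontrivial.1 hz2
      obtain ⟨w, hw⟩ := exists_ne (1 : Z)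
      exact ⟨w, w.2, fun h => hw (Subtype.ext h)⟩
    have hV3 : Nat.card V = 3 ^ e := by rw [hV, hQ3']
    have hM : ∀ M : ℕ, 3 * e < 4 * (M + 1) → ∀ a : A, a ≠ 1 → Nat.card (fixS A V a) ≤ 3 ^ M := by
      intro M hM a ha
      obtain ⟨i, -, hi⟩ := (Nat.dvd_prime_pow Nat.prime_three).1
        (hV3 ▸ (fixS A V a).card_addSubgroup_dvd_card)
      have h := hfour a ha
      rw [hi, hV3, ← pow_mul, ← pow_mul, Nat.pow_le_pow_iff_right (by norm_num)] at h
      rw [hi]
      exact Nat.pow_le_pow_right (by norm_num) (by omega)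
    have hw' := hfix1 w hw hw1
    have hw'' := hfix1 w⁻¹ (inv_mem hw) (by simpa using hw1)
    rcases he' with h | h
    · refine triple_of_pairs w hw' hw'' hV3 (S := 3 ^ 5) (by rw [hV3, h]; norm_num) (hM 7 (by omega)) ?_
      rw [h]
      exact lt_of_le_of_lt (Nat.mul_le_mul_right _ hT') (by norm_num)
    · refine triple_of_pairs w hw' hw'' hV3 (S := 3 ^ 6) (by rw [hV3, h]; norm_num) (hM 9 (by omega)) ?_
      rw [h]
      exact lt_of_le_of_lt (Nat.mul_le_mul_right _ hT') (by norm_num)

/-- The primitive case. -/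
theorem triple_primitive {N : ℕ} (hb : Below3.{u} N) (hN : Nat.card A ≤ N)
    [Group.IsSolvable A] [Nontrivial V] (hirr : Irr A V) [Z.Normal] (hmax : MaxAbelian Z)
    (hidem : ∀ e ∈ alg A V Z, e * e = e → e = 0 ∨ e = 1) : Triple A V := by
  have hf := alg_field hirr hidem
  haveI : Finite (alg A V Z) := alg_finite
  have hinv : ∀ g : A, act A V g⁻¹ * act A V g = 1 := fun g => by
    rw [← map_mul, inv_mul_cancel, map_one]
  have hinv' : ∀ g : A, act A V g * act A V g⁻¹ = 1 := fun g => by
    rw [← map_mul, mul_inv_cancel, map_one]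
  let cj : A → alg A V Z →+* alg A V Z := fun g =>
    { toFun := fun k => ⟨act A V g * k * act A V g⁻¹, alg_conj g k.2⟩
      map_one' := Subtype.ext (by
        change act A V g * 1 * act A V g⁻¹ = 1
        rw [mul_one, hinv'])
      map_mul' := fun a b => Subtype.ext (by
        simp only [Subring.coe_mul]
        simp only [mul_assoc]
        rw [← mul_assoc (act A V g⁻¹) (act A V g), hinv, one_mul])
      map_zero' := Subtype.ext (by
        change act A V g * 0 * act A V g⁻¹ = 0
        rw [mul_zero, zero_mul])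
      map_add' := fun a b => Subtype.ext (by
        change act A V g * ((a : AddMonoid.End V) + b) * act A V g⁻¹ =
          act A V g * a * act A V g⁻¹ + act A V g * b * act A V g⁻¹
        rw [mul_add, add_mul]) }
  have hcj1 : ∀ k, cj 1 k = k := fun k => Subtype.ext (by
    change act A V 1 * (k : AddMonoid.End V) * act A V 1⁻¹ = k
    rw [inv_one, map_one, one_mul, mul_one])
  have hcjmul : ∀ g g' k, cj (g * g') k = cj g (cj g' k) := fun g g' k => Subtype.ext (by
    change act A V (g * g') * k * act A V (g * g')⁻¹ =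
      act A V g * (act A V g' * k * act A V g'⁻¹) * act A V g⁻¹
    rw [mul_inv_rev, map_mul, map_mul]
    simp only [mul_assoc])
  let σ : A →* RingAut (alg A V Z) := MonoidHom.mk'
    (fun g => RingEquiv.ofRingHom (cj g) (cj g⁻¹)
      (RingHom.ext fun k => by rw [RingHom.comp_apply, ← hcjmul, mul_inv_cancel, hcj1]; rfl)
      (RingHom.ext fun k => by rw [RingHom.comp_apply, ← hcjmul, inv_mul_cancel, hcj1]; rfl))
    (fun g g' => RingEquiv.ext fun k => hcjmul g g' k)
  have hσ : σ.ker = Subgroup.centralizer (Z : Set A) := by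
    ext g
    rw [MonoidHom.mem_ker, Subgroup.mem_centralizer_iff]
    constructor
    · intro h z hz
      have h1 : act A V g * act A V z * act A V g⁻¹ = act A V z :=
        congrArg Subtype.val (RingEquiv.congr_fun h ⟨act A V z, mem_alg hz⟩)
      rw [← map_mul, ← map_mul] at h1
      have h2 : g * z * g⁻¹ = z := eq_of_smul_eq_smul fun v : V => DFunLike.congr_fun h1 v
      rw [mul_inv_eq_iff_eq_mul] at h2
      exact h2.symm
    · intro h
      refine RingEquiv.ext fun k => Subtype.ext ?_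
      change act A V g * k * act A V g⁻¹ = k
      rw [commute_alg (Subgroup.mem_centralizer_iff.2 h) k.2, mul_assoc, hinv', mul_one]
  let ι : Z →* (alg A V Z)ˣ := MonoidHom.toHomUnits
    { toFun := fun z : Z => ⟨act A V (z : A), mem_alg z.2⟩
      map_one' := Subtype.ext (map_one (act A V))
      map_mul' := fun x y => Subtype.ext (map_mul (act A V) (x : A) (y : A)) }
  have hι : Function.Injective ι := by
    intro x y h
    have h1 : act A V (x : A) = act A V (y : A) := congrArg (fun t : (alg A V Z)ˣ => ((t : alg A V Z) : AddMonoid.End V)) h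
    exact Subtype.ext (eq_of_smul_eq_smul fun v : V => DFunLike.congr_fun h1 v)
  letI mV : Module (alg A V Z) V := Module.compHom V (alg A V Z).subtype
  refine @triple_semilinear A V _ _ _ _ _ _ Z _ N hb hN _ _ _ (alg A V Z) (algField hf) _ mV
    hmax hf ι hι (fun _ _ => rfl) σ hσ fun g k v => ?_
  change g • ((k : AddMonoid.End V) v) = g • ((k : AddMonoid.End V) (g⁻¹ • (g • v)))
  rw [inv_smul_smul]

end Cfsg.Lib.SolvBase
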