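import Cfsg.Agent.OddBase.Main
import Cfsg.Agent.SolvBase.Imprimitive
import Cfsg.Agent.SolvBase.Primitive

/-!
The theorem on triples of vectors for completely reducible solvable groups.
-/

set_option autoImplicit false
set_option linter.unusedSectionVars false

namespace Cfsg.Lib.SolvBase

open Cfsg.Lib.OddBase

universe u

variable {A V : Type u} [Group A] [Finite A] [AddCommGroup V] [Finite V] [DistribMulAction A V]

/-- Reducible groups: combine the components. -/
theorem triple_reducible (hcr : CR A V) {U : AddSubgroup V} (hU : ∀ a : A, ∀ v ∈ U, a • v ∈ U)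
    (h0 : U ≠ ⊥) (h1 : U ≠ ⊤)
    (ih : ∀ (U : Type u) [AddCommGroup U] [Finite U] [DistribMulAction A U],
      Nat.card U < Nat.card V → CR A U → Triple A U) : Triple A V := by
  obtain ⟨W, hW, hUW, hsup⟩ := hcr U hU
  have hpart : ∀ T : AddSubgroup V, (∀ a : A, ∀ v ∈ T, a • v ∈ T) → T ≠ ⊤ →
      ∃ x ∈ T, ∃ y ∈ T, ∃ z ∈ T, ∀ a : A, a • x = x → a • y = y → a • z = z → ∀ w ∈ T, a • w = w := by
    intro T hT hT1
    letI : DistribMulAction A T :=
      { smul := fun a x => ⟨a • (x : V), hT a x x.2⟩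
        one_smul := fun x => Subtype.ext (one_smul A (x : V))
        mul_smul := fun a b x => Subtype.ext (mul_smul a b (x : V))
        smul_zero := fun a => Subtype.ext (smul_zero a)
        smul_add := fun a x y => Subtype.ext (smul_add a (x : V) y) }
    have hlt : Nat.card T < Nat.card V := by
      refine lt_of_le_of_ne (Nat.card_le_card_of_injective _ Subtype.val_injective) fun he => hT1 ?_
      exact AddSubgroup.eq_top_of_card_eq T he
    have hTcr : CR A T := by
      intro S hS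
      obtain ⟨R, hR, hSR, hSRs⟩ := hcr (S.map T.subtype) (by
        rintro a _ ⟨x, hx, rfl⟩
        exact ⟨a • x, hS a x hx, rfl⟩)
      refine ⟨R.comap T.subtype, fun a x hx => hR a x hx, ?_, ?_⟩
      · rw [eq_bot_iff]
        rintro x ⟨hxS, hxR⟩
        have h2 : (x : V) ∈ S.map T.subtype ⊓ R :=
          AddSubgroup.mem_inf.2 ⟨⟨x, hxS, rfl⟩, hxR⟩
        rw [hSR] at h2
        exact AddSubgroup.mem_bot.2 (Subtype.ext (AddSubgroup.mem_bot.1 h2))
      · rw [eq_top_iff]
        intro x _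
        obtain ⟨_, ⟨s, hs, rfl⟩, r, hr, hsr⟩ := AddSubgroup.mem_sup.1
          (show (x : V) ∈ S.map T.subtype ⊔ R from hSRs ▸ AddSubgroup.mem_top _)
        have hrT : r ∈ T := by
          have : r = (x : V) - s := by rw [← hsr]; exact (add_sub_cancel_left (s : V) r).symm
          rw [this]
          exact sub_mem x.2 s.2
        exact AddSubgroup.mem_sup.2 ⟨s, hs, ⟨r, hrT⟩, hr, Subtype.ext hsr⟩
    obtain ⟨x, y, z, hxyz⟩ := ih T hlt hTcr
    exact ⟨x, x.2, y, y.2, z, z.2, fun a h1 h2 h3 w hw =>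
      congrArg Subtype.val (hxyz a (Subtype.ext h1) (Subtype.ext h2) (Subtype.ext h3) ⟨w, hw⟩)⟩
  have hW1 : W ≠ ⊤ := by
    rintro rfl
    exact h0 (by simpa using hUW)
  obtain ⟨u1, hu1, u2, hu2, u3, hu3, hu⟩ := hpart U hU h1
  obtain ⟨w1, hw1, w2, hw2, w3, hw3, hw⟩ := hpart W hW hW1
  have hsplit : ∀ (a : A), ∀ x ∈ U, ∀ y ∈ W, a • (x + y) = x + y → a • x = x ∧ a • y = y := by
    intro a x hx y hy h
    rw [smul_add] at h
    have h2 : a • x - x = y - a • y := by rw [sub_eq_sub_iff_add_eq_add, h, add_comm]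
    have h3 : a • x - x ∈ U ⊓ W :=
      AddSubgroup.mem_inf.2 ⟨sub_mem (hU a x hx) hx, h2 ▸ sub_mem hy (hW a y hy)⟩
    rw [hUW, AddSubgroup.mem_bot] at h3
    have h4 : a • x = x := sub_eq_zero.1 h3
    rw [h4] at h
    exact ⟨h4, add_left_cancel h⟩
  refine ⟨u1 + w1, u2 + w2, u3 + w3, fun a ha hb hc x => ?_⟩
  obtain ⟨e1, e2⟩ := hsplit a u1 hu1 w1 hw1 ha
  obtain ⟨e3, e4⟩ := hsplit a u2 hu2 w2 hw2 hb
  obtain ⟨e5, e6⟩ := hsplit a u3 hu3 w3 hw3 hc
  obtain ⟨p, hp, q, hq, rfl⟩ := AddSubgroup.mem_sup.1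
    (show x ∈ U ⊔ W from hsup ▸ AddSubgroup.mem_top _)
  rw [smul_add, hu a e1 e3 e5 p hp, hw a e2 e4 e6 q hq]

/-- The inductive step. -/
theorem triple_step {n : ℕ} (hb : Below3.{u} n) :
    ∀ (m : ℕ) (A V : Type u) [Group A] [Finite A] [AddCommGroup V] [Finite V] [DistribMulAction A V],
      Nat.card V = m → Nat.card A ≤ n → Group.IsSolvable A → CR A V → Triple A V := by
  intro m
  induction m using Nat.strong_induction_on with
  | _ m ih =>
  intro A V _ _ _ _ _ hm hn hsolv hcr
  haveI := hsolv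
  rcases subsingleton_or_nontrivial V with hs | hnt
  · exact ⟨0, 0, 0, fun a _ _ _ x => Subsingleton.elim _ _⟩
  by_cases hirr : Irr A V
  · let π : A →* (AddMonoid.End V)ˣ := (act A V).toHomUnits
    by_cases hker : π.ker = ⊥
    · haveI : FaithfulSMul A V := ⟨fun {a b} h =>
        (MonoidHom.ker_eq_bot_iff π).1 hker (Units.ext (AddMonoidHom.ext h))⟩
      obtain ⟨Z, hZn, hZc, hmax⟩ := exists_maxAbelian (A := A)
      haveI := hZn
      haveI := hZc
      by_cases hidem : ∀ e ∈ alg A V Z, e * e = e → e = 0 ∨ e = 1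
      · exact triple_primitive hb hn hirr hmax hidem
      · push Not at hidem
        obtain ⟨e, he, hid, h0, h1⟩ := hidem
        exact triple_of_idem hb hn hirr Z e he hid h0 h1
    · let X := π.range
      haveI : Finite X := Finite.of_surjective _ π.rangeRestrict_surjective
      have hlt : Nat.card X < n := by
        refine lt_of_lt_of_le ?_ hn
        rw [← π.ker.card_mul_index, ← Subgroup.index_ker π]
        exact lt_mul_of_one_lt_left (Nat.pos_of_ne_zero π.ker.index_ne_zero_of_finite)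
          ((Subgroup.one_lt_card_iff_ne_bot _).2 hker)
      have hXcr : CR X V := by
        intro U hU
        obtain ⟨W, hW, h⟩ := hcr U fun a v hv => hU ⟨π a, a, rfl⟩ v hv
        exact ⟨W, by rintro ⟨_, a, rfl⟩ w hw; exact hW a w hw, h⟩
      obtain ⟨x, y, z, hxyz⟩ := hb X V hlt
        (Group.isSolvable_of_surjective π.rangeRestrict_surjective) hXcr
      exact ⟨x, y, z, fun a h1 h2 h3 w => hxyz ⟨π a, a, rfl⟩ h1 h2 h3 w⟩
  · simp only [Irr, not_forall, not_or] at hirr
    obtain ⟨U, hU, h0, h1⟩ := hirr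
    exact triple_reducible hcr hU h0 h1 fun U' _ _ _ hlt hcr' =>
      ih _ (hm ▸ hlt) A U' rfl hn hsolv hcr'

/-- The theorem for every order. -/
theorem below3_all : ∀ n, Below3.{u} n := by
  intro n
  induction n with
  | zero =>
    intro A V _ _ _ _ _ h
    exact absurd h (Nat.not_lt_zero _)
  | succ n ih =>
    intro A V _ _ _ _ _ h hsolv hcr
    exact triple_step ih _ A V rfl (Nat.lt_succ_iff.1 h) hsolv hcr

end Cfsg.Lib.SolvBase
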