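import Cfsg.Agent.SolvBase.Basic
import Cfsg.Agent.OddBase.Pairing

/-!
A maximal stabiliser in the socle is almost its own orthogonal.
-/

set_option autoImplicit false
set_option linter.unusedSectionVars false

namespace Cfsg.Lib.SolvBase

open Subgroup Cfsg.Lib.OddBase

universe u

variable {A : Type u} [Group A] [Finite A] [Group.IsSolvable A] {Z : Subgroup A} [Z.Normal]
  [IsMulCommutative Z] {K : Type u} [Field K] [Finite K] {V : Type u} [AddCommGroup V] [Finite V]
  [DistribMulAction A V] [Module K V]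

/-- The socle over `Z`. -/
abbrev Soc (Z : Subgroup A) : Subgroup A := socle Z (Subgroup.centralizer (Z : Set A))

theorem form_one_left (ι : Z →* Kˣ) (l : Soc Z) : form ι 1 l = 1 :=
  DFunLike.congr_fun (map_one (formHom ι)) l

theorem form_one_right (ι : Z →* Kˣ) (l : Soc Z) : form ι l 1 = 1 :=
  map_one (formHom ι l)

theorem form_inv_left (ι : Z →* Kˣ) (l m : Soc Z) : form ι l⁻¹ m = (form ι l m)⁻¹ := by
  rw [eq_inv_iff_mul_eq_one, ← form_mul_left, inv_mul_cancel, form_one_left]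

theorem form_inv_right (ι : Z →* Kˣ) (l m : Soc Z) : form ι l m⁻¹ = (form ι l m)⁻¹ := by
  rw [eq_inv_iff_mul_eq_one, ← form_mul_right, inv_mul_cancel, form_one_right]

theorem form_pow_left (ι : Z →* Kˣ) (l m : Soc Z) (k : ℕ) : form ι (l ^ k) m = form ι l m ^ k := by
  induction k with
  | zero => simp [form_one_left]
  | succ k ih => rw [pow_succ, pow_succ, form_mul_left, ih]

theorem form_pow_right (ι : Z →* Kˣ) (l m : Soc Z) (k : ℕ) : form ι l (m ^ k) = form ι l m ^ k := by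
  induction k with
  | zero => simp [form_one_right]
  | succ k ih => rw [pow_succ, pow_succ, form_mul_right, ih]

theorem form_comm {ι : Z →* Kˣ} (hι : Function.Injective ι) (l m : Soc Z) :
    form ι l m = 1 ↔ l * m = m * l :=
  (form_eq_one hι l m).trans ⟨fun h => Subtype.ext h, fun h => congrArg Subtype.val h⟩

theorem form_swap (ι : Z →* Kˣ) (l m : Soc Z) : form ι m l = (form ι l m)⁻¹ := by
  rw [eq_inv_iff_mul_eq_one, form, form, ← map_mul]
  convert map_one ι
  apply Subtype.ext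
  simp only [Subgroup.coe_mul, Subgroup.coe_one]
  group

theorem smul_swap {ι : Z →* Kˣ} (hιv : ∀ (z : Z) (v : V), ((ι z : Kˣ) : K) • v = (z : A) • v)
    (l m : Soc Z) (v : V) :
    (l : A) • (m : A) • v = ((form ι l m : Kˣ) : K) • (m : A) • (l : A) • v := by
  rw [form, hιv, ← mul_smul, ← mul_smul, ← mul_smul]
  congr 1
  simp only [mul_assoc, inv_mul_cancel_left, inv_mul_cancel, mul_one]

theorem soc_smul_comm (hcomm : ∀ g ∈ Subgroup.centralizer (Z : Set A), ∀ (k : K) (v : V),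
    g • (k • v) = k • (g • v)) (l : Soc Z) (k : K) (v : V) :
    (l : A) • (k • v) = k • ((l : A) • v) :=
  hcomm _ (socle_le Z _ l.2) k v

theorem soc_mem_center {ι : Z →* Kˣ} (hι : Function.Injective ι) (hmax : MaxAbelian Z)
    (hne : ¬ Subgroup.centralizer (Z : Set A) ≤ Z) (l : Soc Z) (h : ∀ m, form ι l m = 1) :
    (l : A) ∈ Z := by
  refine (socle_center hmax hne).le ⟨l.2, Subgroup.mem_centralizer_iff.2 fun m hm => ?_⟩
  exact ((form_eq_one hι l ⟨m, hm⟩).1 (h ⟨m, hm⟩)).symm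

theorem form_of_mem {ι : Z →* Kˣ} (hι : Function.Injective ι) (l m : Soc Z) (hm : (m : A) ∈ Z) :
    form ι l m = 1 :=
  (form_eq_one hι l m).2 (socle_central l.2 hm).symm

/-- The socle has square-free exponent modulo `Z`. -/
theorem exists_exp (hZL : Z ≤ Soc Z) : ∃ P : Finset ℕ, (∀ q ∈ P, q.Prime) ∧
    ∀ l : Soc Z, ((l ^ (∏ q ∈ P, q) : Soc Z) : A) ∈ Z := by
  classical
  set L := Soc Z with hL
  refine ⟨(Z.relIndex L).primeFactors, fun q hq => Nat.prime_of_mem_primeFactors hq, ?_⟩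
  set m := ∏ q ∈ (Z.relIndex L).primeFactors, q
  have hcm : ∀ l k : L, Commute ((l : A) : A ⧸ Z) ((k : A) : A ⧸ Z) := fun l k =>
    socBar_comm (Subgroup.mem_map_of_mem _ l.2) (Subgroup.mem_map_of_mem _ k.2)
  let T : Subgroup A :=
    { carrier := {x | x ∈ L ∧ x ^ m ∈ Z}
      one_mem' := ⟨one_mem L, by rw [one_pow]; exact one_mem Z⟩
      mul_mem' := fun {x y} hx hy => ⟨mul_mem hx.1 hy.1, by
        rw [← QuotientGroup.eq_one_iff, QuotientGroup.mk_pow, QuotientGroup.mk_mul,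
          (hcm ⟨x, hx.1⟩ ⟨y, hy.1⟩).mul_pow, ← QuotientGroup.mk_pow, ← QuotientGroup.mk_pow,
          (QuotientGroup.eq_one_iff _).2 hx.2, (QuotientGroup.eq_one_iff _).2 hy.2, mul_one]⟩
      inv_mem' := fun {x} hx => ⟨inv_mem hx.1, by rw [inv_pow]; exact inv_mem hx.2⟩ }
  have hLT : L ≤ T := sSup_le fun M hM y hy => by
    obtain ⟨q, hq, hdvd, hMexp⟩ := layer_exp hM
    have h1 : q ∣ Z.relIndex L := hdvd.trans
      (Dvd.intro _ (Subgroup.relIndex_mul_relIndex Z M L hM.2.1.le (layer_le_socle hM)))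
    have h0 : Z.relIndex L ≠ 0 := Subgroup.index_ne_zero_of_finite
    obtain ⟨t, ht⟩ : q ∣ m := Finset.dvd_prod_of_mem _ (Nat.mem_primeFactors.2 ⟨hq, h1, h0⟩)
    refine ⟨layer_le_socle hM hy, ?_⟩
    rw [ht, pow_mul]
    exact pow_mem (hMexp y hy) t
  intro l
  rw [Subgroup.coe_pow]
  exact (hLT l.2).2

variable (ι : Z →* Kˣ)

/-- The stabiliser of a vector in the socle. -/
def stabS (Z : Subgroup A) (v₁ : V) : Subgroup (Soc Z) :=
  (MulAction.stabilizer A v₁).subgroupOf (Soc Z)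

theorem mem_stabS {v₁ : V} {l : Soc Z} : l ∈ stabS Z v₁ ↔ (l : A) • v₁ = v₁ := Iff.rfl

/-- The characters of the stabiliser given by the form. -/
noncomputable def chS (v₁ : V) : Soc Z →* (stabS Z v₁ →* Kˣ) :=
  (MonoidHom.compHom' (stabS Z v₁).subtype).comp (formHom ι)

theorem chS_apply (v₁ : V) (l : Soc Z) (x : stabS Z v₁) : chS ι v₁ l x = form ι l x := rfl

theorem card_chS_range {ι : Z →* Kˣ} (hι : Function.Injective ι)
    (hιv : ∀ (z : Z) (v : V), ((ι z : Kˣ) : K) • v = (z : A) • v) (hmax : MaxAbelian Z)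
    (hne : ¬ Subgroup.centralizer (Z : Set A) ≤ Z) {v₁ : V} (hv₁ : v₁ ≠ 0) :
    Nat.card (chS ι v₁).range = Nat.card (stabS Z v₁) ∧
      (∀ χ : (chS ι v₁).range →* Kˣ, ∃ x : stabS Z v₁, ∀ φ : (chS ι v₁).range, χ φ = φ.1 x) ∧
      (Nat.card (stabS Z v₁) : K) ≠ 0 := by
  classical
  set S := stabS Z v₁
  let ev : S →* ((chS ι v₁).range →* Kˣ) := MonoidHom.mk'
    (fun x => MonoidHom.mk' (fun φ => φ.1 x) fun φ φ' => rfl)
    fun x y => MonoidHom.ext fun φ => map_mul φ.1 x y
  have hev : Function.Injective ev := by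
    rw [injective_iff_map_eq_one]
    intro x hx
    have hZ : ((x : Soc Z) : A) ∈ Z := soc_mem_center hι hmax hne _ fun m => by
      have h1 : form ι m (x : Soc Z) = 1 := DFunLike.congr_fun hx ⟨_, m, rfl⟩
      rw [form_swap, h1, inv_one]
    have h2 := hιv ⟨_, hZ⟩ v₁
    rw [show ((x : Soc Z) : A) • v₁ = v₁ from x.2] at h2
    have h3 : ((ι ⟨_, hZ⟩ : Kˣ) : K) = 1 := smul_left_injective K hv₁ (h2.trans (one_smul K v₁).symm)
    have h4 : (⟨_, hZ⟩ : Z) = 1 := hι (Units.ext (by rw [h3, map_one, Units.val_one]))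
    have h5 : ((x : Soc Z) : A) = 1 := (congrArg Subtype.val h4 : _)
    exact Subtype.ext (Subtype.ext h5)
  haveI : Finite ((chS ι v₁).range →* Kˣ) := Finite.of_injective _ DFunLike.coe_injective
  haveI : Finite (S →* Kˣ) := Finite.of_injective _ DFunLike.coe_injective
  have h1 : Nat.card S ≤ Nat.card ((chS ι v₁).range →* Kˣ) := Nat.card_le_card_of_injective ev hev
  have h2 : Nat.card ((chS ι v₁).range →* Kˣ) ≤ Nat.card (chS ι v₁).range := card_hom_le
  have h3 : Nat.card (chS ι v₁).range ≤ Nat.card (S →* Kˣ) :=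
    Nat.card_le_card_of_injective _ Subtype.val_injective
  have h4 : Nat.card (S →* Kˣ) ≤ Nat.card S := card_hom_le
  refine ⟨le_antisymm (h3.trans h4) (h1.trans h2), fun χ => ?_, fun h0 => ?_⟩
  · obtain ⟨x, hx⟩ := ((Nat.bijective_iff_injective_and_card ev).2 ⟨hev, le_antisymm h1 (h2.trans (h3.trans h4))⟩).2 χ
    exact ⟨x, fun φ => by rw [← hx]; rfl⟩
  · obtain ⟨p, hchar⟩ := CharP.exists K
    have hp : p.Prime := CharP.char_is_prime K p
    haveI := Fact.mk hp
    obtain ⟨x, hx⟩ := exists_prime_orderOf_dvd_card' (G := S) p ((CharP.cast_eq_zero_iff K p _).1 h0)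
    have hx1 : x = 1 := hev <| by
      rw [map_one]
      refine MonoidHom.ext fun φ => Units.ext ?_
      have hu : ((φ.1 x : Kˣ) : K) ^ p = 1 := by
        rw [← Units.val_pow_eq_pow_val, ← map_pow, ← hx, pow_orderOf_eq_one, map_one, Units.val_one]
      change ((φ.1 x : Kˣ) : K) = 1
      refine sub_eq_zero.1 (pow_eq_zero_iff hp.ne_zero |>.1 ?_)
      rw [sub_pow_char, hu, one_pow, sub_self]
    rw [hx1, orderOf_one] at hx
    exact hp.ne_one hx.symm

/-- An element of prime order over the stabiliser that commutes with it lies in it, up to `Z`. -/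
theorem mem_dom_of_pow {ι : Z →* Kˣ} (hι : Function.Injective ι)
    (hιv : ∀ (z : Z) (v : V), ((ι z : Kˣ) : K) • v = (z : A) • v)
    (hcomm : ∀ g ∈ Subgroup.centralizer (Z : Set A), ∀ (k : K) (v : V), g • (k • v) = k • (g • v))
    {v₁ : V} (hv₁ : v₁ ≠ 0)
    (hmaxv : ∀ w : V, w ≠ 0 → Nat.card (stabS Z w) ≤ Nat.card (stabS Z v₁))
    (hZL : Z ≤ Soc Z) {x : Soc Z} (hx : chS ι v₁ x = 1) {s : ℕ} (hs : s.Prime) (hsz : s ∣ Nat.card Z)
    {z : Soc Z} (hz : (z : A) ∈ Z) (hxs : (z ^ s)⁻¹ * x ^ s ∈ stabS Z v₁) :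
    x ∈ Z.subgroupOf (Soc Z) ⊔ stabS Z v₁ := by
  classical
  haveI := Fact.mk hs
  have hcen : ∀ l : Soc Z, Commute z l := fun l => Subtype.ext (socle_central l.2 hz)
  set y := z⁻¹ * x with hy
  have hys : y ^ s ∈ stabS Z v₁ := by
    rw [hy, (hcen x).inv_left.mul_pow, inv_pow]; exact hxs
  obtain ⟨ζ, hζ⟩ := exists_prime_orderOf_dvd_card' (G := Z) s hsz
  set u : K := ((ι ζ : Kˣ) : K) with hu
  have hus : u ^ s = 1 := by
    rw [hu, ← Units.val_pow_eq_pow_val, ← map_pow, ← hζ, pow_orderOf_eq_one, map_one, Units.val_one]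
  have hprim : IsPrimitiveRoot u s := by
    rw [IsPrimitiveRoot.iff_orderOf, hu, orderOf_units, orderOf_injective ι hι, hζ]
  -- the averages
  let F : ℕ → ℕ → V := fun j i => u ^ (i * j) • (((y ^ i : Soc Z) : A) • v₁)
  have hsum : ∑ j ∈ Finset.range s, ∑ i ∈ Finset.range s, F j i = (s : K) • v₁ := by
    rw [Finset.sum_comm]
    have h1 : ∀ i ∈ Finset.range s, ∑ j ∈ Finset.range s, F j i = if i = 0 then (s : K) • v₁ else 0 := by
      intro i hi
      simp only [F, ← Finset.sum_smul]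
      split_ifs with h
      · subst h; simp
      · have hne : u ^ i ≠ 1 := hprim.pow_ne_one_of_pos_of_lt (by omega) (Finset.mem_range.1 hi)
        have : ∑ j ∈ Finset.range s, u ^ (i * j) = 0 := by
          simp only [pow_mul]
          have hg := geom_sum_mul (u ^ i) s
          rw [← pow_mul, mul_comm i s, pow_mul, hus, one_pow, sub_self] at hg
          exact (mul_eq_zero.1 hg).resolve_right (sub_ne_zero.2 hne)
        rw [this, zero_smul]
    rw [Finset.sum_congr rfl h1, Finset.sum_ite_eq', if_pos (Finset.mem_range.2 hs.pos)]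
  have hs0 : (s : K) ≠ 0 := by
    haveI : NeZero s := ⟨hs.ne_zero⟩
    exact hprim.neZero'.ne
  obtain ⟨j, -, hj⟩ := Finset.exists_ne_zero_of_sum_ne_zero
    (hsum.trans_ne (smul_ne_zero hs0 hv₁))
  set w := ∑ i ∈ Finset.range s, F j i with hw
  have hshift : u ^ j • ((y : A) • w) = w := by
    rw [hw, Finset.smul_sum, Finset.smul_sum]
    have h1 : ∀ i ∈ Finset.range s, u ^ j • ((y : A) • F j i) = F j (i + 1) := by
      intro i _
      simp only [F]
      rw [soc_smul_comm hcomm, smul_smul, ← pow_add, ← mul_smul]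
      congr 1
      · ring_nf
      · rw [pow_succ' y i]; rfl
    rw [Finset.sum_congr rfl h1]
    have h0 : F j s = F j 0 := by
      simp only [F]
      rw [pow_mul, hus, one_pow, zero_mul, pow_zero, pow_zero, Subgroup.coe_one, one_smul A,
        mem_stabS.1 hys]
    have h2 := Finset.sum_range_succ' (F j) s
    rw [Finset.sum_range_succ, h0, add_left_inj] at h2
    exact h2.symm
  have hfixS : ∀ l : Soc Z, l ∈ stabS Z v₁ → (l : A) • w = w := by
    intro l hl
    have hly : form ι y l = 1 := by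
      rw [hy, form_mul_left, show form ι x l = 1 from DFunLike.congr_fun hx ⟨l, hl⟩, mul_one,
        form_inv_left, form_swap, form_of_mem hι l z hz, inv_one, inv_one]
    rw [hw, Finset.smul_sum]
    refine Finset.sum_congr rfl fun i _ => ?_
    simp only [F]
    rw [soc_smul_comm hcomm, smul_swap hιv]
    rw [form_swap, form_pow_left, hly, one_pow, inv_one, Units.val_one, one_smul K,
      mem_stabS.1 hl]
  let ζ' : Soc Z := ⟨ζ, hZL ζ.2⟩
  have hmem : ζ' ^ j * y ∈ stabS Z w := by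
    rw [mem_stabS, Subgroup.coe_mul, mul_smul]
    refine Eq.trans ?_ hshift
    rw [hu, ← Units.val_pow_eq_pow_val, ← map_pow, hιv]
    rfl
  have heq : stabS Z v₁ = stabS Z w :=
    Subgroup.eq_of_le_of_card_ge (fun l hl => hfixS l hl) (hmaxv w hj)
  rw [← heq] at hmem
  have hD : y ∈ Z.subgroupOf (Soc Z) ⊔ stabS Z v₁ := by
    have : y = (ζ' ^ j)⁻¹ * (ζ' ^ j * y) := (inv_mul_cancel_left _ _).symm
    rw [this]
    exact mul_mem (Subgroup.mem_sup_left (inv_mem (pow_mem (show ζ' ∈ Z.subgroupOf (Soc Z) from ζ.2) j)))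
      (Subgroup.mem_sup_right hmem)
  rw [show x = z * y from (mul_inv_cancel_left _ _).symm]
  exact mul_mem (Subgroup.mem_sup_left (show z ∈ Z.subgroupOf (Soc Z) from hz)) hD

end Cfsg.Lib.SolvBase
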