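import Cfsg.Agent.SolvBase.Radical

/-!
The monomial frame of a primitive group and the colouring criterion for a regular triple.
-/

set_option autoImplicit false
set_option linter.unusedSectionVars false

namespace Cfsg.Lib.SolvBase

open Subgroup Cfsg.Lib.OddBase

universe u

variable {A : Type u} [Group A] [Finite A] [Group.IsSolvable A] {Z : Subgroup A} [Z.Normal]
  [IsMulCommutative Z] {K : Type u} [Field K] [Finite K] {V : Type u} [AddCommGroup V] [Finite V]
  [DistribMulAction A V] [Module K V]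

/-- Conjugation on the socle. -/
def conjL (g : A) (l : Soc Z) : Soc Z := ⟨g * l * g⁻¹, (socle_normal Z _).conj_mem _ l.2 g⟩

theorem conjL_mul (g : A) (l m : Soc Z) : conjL g (l * m) = conjL g l * conjL g m :=
  Subtype.ext (by simp [conjL, mul_assoc])

theorem conjL_one (g : A) : conjL g (1 : Soc Z) = 1 := Subtype.ext (by simp [conjL])

theorem conjL_conjL (g h : A) (l : Soc Z) : conjL g (conjL h l) = conjL (g * h) l :=
  Subtype.ext (by simp [conjL, mul_assoc])

theorem conjL_one_left (l : Soc Z) : conjL (1 : A) l = l := Subtype.ext (by simp [conjL])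

/-- A decomposition of the module into translates of the fixed space of a maximal stabiliser. -/
structure Frame (A : Type u) [Group A] (Z : Subgroup A) (K : Type u) [Field K] (V : Type u)
    [AddCommGroup V] [DistribMulAction A V] [Module K V] where
  I : Type u
  [grp : CommGroup I]
  [fin : Fintype I]
  v₁ : V
  hv₁ : v₁ ≠ 0
  E : Submodule K V
  hv₁E : v₁ ∈ E
  ψ : Soc Z →* I
  lift : I → Soc Z
  hlift : ∀ i, ψ (lift i) = i
  hlift1 : lift 1 = 1
  hfix : ∀ l : Soc Z, (l : A) • v₁ = v₁ → ∀ u ∈ E, (l : A) • u = u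
  hker : ∀ l : Soc Z, ψ l = 1 → ∀ u ∈ E, (l : A) • u ∈ E
  hinv : ∀ g : A, g • v₁ = v₁ → ∀ u ∈ E, g • u ∈ E
  hconj : ∀ g : A, g • v₁ = v₁ → ∀ (_ : Z.Normal) (l : Soc Z), ψ l = 1 → ψ (conjL g l) = 1
  hbij : Function.Bijective fun u : I → E => ∑ i, ((lift i : A) • (u i : V))

attribute [instance] Frame.grp Frame.fin

set_option maxHeartbeats 1000000 in
/-- The frame exists. -/
theorem exists_frame [Nontrivial V] {ι : Z →* Kˣ} (hι : Function.Injective ι)
    (hιv : ∀ (z : Z) (v : V), ((ι z : Kˣ) : K) • v = (z : A) • v)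
    (hcomm : ∀ g ∈ Subgroup.centralizer (Z : Set A), ∀ (k : K) (v : V), g • (k • v) = k • (g • v))
    (hmax : MaxAbelian Z) (hne : ¬ Subgroup.centralizer (Z : Set A) ≤ Z) {r : ℕ}
    (hr : Z.relIndex (Soc Z) = r * r) :
    ∃ F : Frame A Z K V, Module.finrank K V = Nat.card F.I * Module.finrank K F.E ∧
      (r = Nat.card F.I ∨ r = 2 * Nat.card F.I ∧ 2 ≤ Module.finrank K F.E) ∧
      (Nat.card F.I = 1 → ∀ l : Soc Z, l ≠ 1 → ∀ v : V, (l : A) • v = v → v = 0) := by
  classical
  haveI := Fintype.ofFinite V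
  obtain ⟨v₀, hv₀⟩ := exists_ne (0 : V)
  obtain ⟨v₁, hv₁', hmax'⟩ := (Finset.univ.filter fun v : V => v ≠ 0).exists_max_image
    (fun v => Nat.card (stabS Z v)) ⟨v₀, by simp [hv₀]⟩
  have hv₁ : v₁ ≠ 0 := (Finset.mem_filter.1 hv₁').2
  have hmaxv : ∀ w : V, w ≠ 0 → Nat.card (stabS Z w) ≤ Nat.card (stabS Z v₁) :=
    fun w hw => hmax' w (by simp [hw])
  obtain ⟨hcard, hchar, hn0⟩ := card_chS_range hι hιv hmax hne hv₁
  obtain ⟨hDcard, hRcase⟩ := radical_cases hι hιv hcomm hmax hne hv₁ hmaxv
  have hS : ∀ g : A, g • v₁ = v₁ → ∀ l ∈ stabS Z v₁, conjL g l ∈ stabS Z v₁ := by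
    intro g hg l hl
    rw [mem_stabS]
    change (g * l * g⁻¹) • v₁ = v₁
    rw [mul_smul, mul_smul, inv_smul_eq_iff.2 hg.symm, mem_stabS.1 hl, hg]
  let E : Submodule K V :=
    { carrier := {u | ∀ l ∈ stabS Z v₁, ((l : Soc Z) : A) • u = u}
      zero_mem' := fun l _ => smul_zero _
      add_mem' := fun {x y} hx hy l hl => by rw [smul_add, hx l hl, hy l hl]
      smul_mem' := fun k x hx l hl => by rw [soc_smul_comm hcomm, hx l hl] }
  let ψ : Soc Z →* (chS ι v₁).range := (chS ι v₁).rangeRestrict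
  have hψ : ∀ l, ψ l = 1 ↔ ∀ x ∈ stabS Z v₁, form ι l x = 1 := fun l =>
    ⟨fun h x hx => DFunLike.congr_fun (congrArg Subtype.val h : chS ι v₁ l = 1) ⟨x, hx⟩,
      fun h => Subtype.ext (MonoidHom.ext fun x => h x x.2)⟩
  have hψs : Function.Surjective ψ := (chS ι v₁).rangeRestrict_surjective
  choose lift₀ hlift₀ using hψs
  let lift : (chS ι v₁).range → Soc Z := fun i => if i = 1 then 1 else lift₀ i
  have hlift : ∀ i, ψ (lift i) = i := fun i => by
    by_cases h : i = 1
    · simp only [lift, h, if_true, map_one]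
    · simp only [lift, if_neg h, hlift₀]
  have hconj : ∀ g : A, g • v₁ = v₁ → ∀ l : Soc Z, ψ l = 1 → ψ (conjL g l) = 1 := by
    intro g hg l hl
    rw [hψ] at hl ⊢
    intro x hx
    have hx' := hS g⁻¹ (inv_smul_eq_iff.2 hg.symm) x hx
    have h := congrArg (conjL g) ((form_comm hι _ _).1 (hl _ hx'))
    rw [conjL_mul, conjL_mul, conjL_conjL, mul_inv_cancel, conjL_one_left] at h
    exact (form_comm hι _ _).2 h
  haveI : Finite (chS ι v₁).range := Finite.of_surjective _ (chS ι v₁).rangeRestrict_surjective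
  haveI := Fintype.ofFinite (chS ι v₁).range
  haveI := Fintype.ofFinite (stabS Z v₁)
  set n : K := (Nat.card (stabS Z v₁) : K) with hn
  -- the weight spaces
  have hwt : ∀ (i : (chS ι v₁).range) (u : V), u ∈ E → ∀ x : stabS Z v₁,
      ((x : Soc Z) : A) • (lift i : A) • u = (((i.1 x : Kˣ) : K))⁻¹ • (lift i : A) • u := by
    intro i u hu x
    rw [smul_swap hιv, hu x x.2, form_swap, Units.val_inv_eq_inv_val]
    congr 3
    conv_rhs => rw [← hlift i]
    rfl
  let P : (chS ι v₁).range → V → V := fun i v =>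
    n⁻¹ • ∑ x : stabS Z v₁, ((i.1 x : Kˣ) : K) • ((x : Soc Z) : A) • v
  have horth1 : ∀ i : (chS ι v₁).range, i ≠ 1 → ∑ x : stabS Z v₁, ((i.1 x : Kˣ) : K) = 0 := by
    intro i hi
    refine sum_hom_units_eq_zero ((Units.coeHom K).comp i.1) fun h => hi (Subtype.ext ?_)
    exact MonoidHom.ext fun x => Units.ext (DFunLike.congr_fun h x)
  have hP : ∀ (i j : (chS ι v₁).range) (u : V), u ∈ E →
      P j ((lift i : A) • u) = if j = i then (lift i : A) • u else 0 := by
    intro i j u hu
    simp only [P, hwt i u hu, smul_smul, ← Finset.sum_smul, Finset.mul_sum]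
    rw [← Finset.mul_sum]
    have e : ∀ x : stabS Z v₁, ((j.1 x : Kˣ) : K) * (((i.1 x : Kˣ) : K))⁻¹ = (((j * i⁻¹).1 x : Kˣ) : K) := by
      intro x
      simp [Units.val_inv_eq_inv_val]
    simp only [e]
    by_cases hji : j = i
    · rw [if_pos hji, hji, mul_inv_cancel]
      simp only [OneMemClass.coe_one, MonoidHom.one_apply, Units.val_one, Finset.sum_const, Finset.card_univ,
        nsmul_one, ← Nat.card_eq_fintype_card]
      rw [← hn, inv_mul_cancel₀ hn0, one_smul K]
    · rw [if_neg hji, horth1 _ (by rwa [Ne, mul_inv_eq_one]), mul_zero, zero_smul]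
  have hweight : ∀ (i : (chS ι v₁).range) (v : V),
      ((lift i)⁻¹ : Soc Z) • P i v ∈ E := by
    intro i v l hl
    change (l : A) • (((lift i)⁻¹ : Soc Z) : A) • P i v = (((lift i)⁻¹ : Soc Z) : A) • P i v
    have h1 : (l : A) • P i v = (((i.1 ⟨l, hl⟩ : Kˣ) : K))⁻¹ • P i v := by
      simp only [P, soc_smul_comm hcomm, Finset.smul_sum, smul_smul]
      refine Fintype.sum_equiv (Equiv.mulLeft ⟨l, hl⟩) _ _ fun x => ?_
      simp only [Equiv.coe_mulLeft, map_mul, Units.val_mul, Subgroup.coe_mul]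
      congr 1
      field_simp
    rw [smul_swap hιv, h1, soc_smul_comm hcomm, smul_smul]
    have e : form ι l (lift i)⁻¹ = i.1 ⟨l, hl⟩ := by
      rw [form_inv_right, form_swap ι (lift i) l, inv_inv]
      conv_rhs => rw [← hlift i]
      rfl
    rw [e, mul_inv_cancel₀ (Units.ne_zero _), one_smul K]
  have hinjI : Function.Injective fun φ : (chS ι v₁).range => φ.1 := Subtype.val_injective
  have hsumP : ∀ v : V, ∑ i, P i v = v := by
    intro v
    simp only [P, ← Finset.smul_sum]
    rw [Finset.sum_comm]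
    simp only [← Finset.sum_smul]
    have h1 : ∀ x : stabS Z v₁, x ≠ 1 → ∑ i : (chS ι v₁).range, ((i.1 x : Kˣ) : K) = 0 := by
      intro x hx
      let f : (chS ι v₁).range →* K :=
        (Units.coeHom K).comp (MonoidHom.mk' (fun i => i.1 x) fun _ _ => rfl)
      refine sum_hom_units_eq_zero f fun h => hx (Subtype.ext ?_)
      have hc : ∀ m : Soc Z, form ι (x : Soc Z) m = 1 := fun m => by
        rw [form_swap, inv_eq_one]
        have h' : f ⟨chS ι v₁ m, m, rfl⟩ = 1 := DFunLike.congr_fun h _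
        exact Units.ext h'
      have hZx := soc_mem_center hι hmax hne _ hc
      have h2 := hιv ⟨_, hZx⟩ v₁
      rw [show ((x : Soc Z) : A) • v₁ = v₁ from x.2] at h2
      have h3 : ((ι ⟨_, hZx⟩ : Kˣ) : K) = 1 := smul_left_injective K hv₁ (h2.trans (one_smul K v₁).symm)
      exact Subtype.ext (congrArg Subtype.val (hι (Units.ext (by rw [h3, map_one, Units.val_one])) :
        (⟨_, hZx⟩ : Z) = 1) : _)
    rw [Finset.sum_eq_single (1 : stabS Z v₁) (fun x _ hx => by rw [h1 x hx, zero_smul]) (by simp)]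
    simp only [map_one, Units.val_one, Finset.sum_const, Finset.card_univ, nsmul_one,
      ← Nat.card_eq_fintype_card, hcard, Subgroup.coe_one, one_smul A]
    rw [smul_smul, ← hn, inv_mul_cancel₀ hn0, one_smul K]
  have hbij : Function.Bijective fun u : (chS ι v₁).range → E => ∑ i, ((lift i : A) • (u i : V)) := by
    refine ⟨fun u u' h => funext fun j => ?_, fun v => ?_⟩
    · have hlin : ∀ w : (chS ι v₁).range → E, P j (∑ i, (lift i : A) • (w i : V)) = (lift j : A) • (w j : V) := by
        intro w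
        have : P j (∑ i, (lift i : A) • (w i : V)) = ∑ i, P j ((lift i : A) • (w i : V)) := by
          simp only [P, Finset.smul_sum]
          exact Finset.sum_comm
        rw [this]
        simp only [hP _ j _ (w _).2]
        rw [Finset.sum_ite_eq, if_pos (Finset.mem_univ j)]
      have := congrArg (P j) h
      rw [hlin u, hlin u'] at this
      exact Subtype.ext (MulAction.injective _ this)
    · refine ⟨fun i => ⟨_, hweight i v⟩, ?_⟩
      refine Eq.trans (Finset.sum_congr rfl fun i _ => ?_) (hsumP v)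
      change (lift i : A) • (((lift i)⁻¹ : Soc Z) : A) • P i v = P i v
      rw [← mul_smul, ← Subgroup.coe_mul, mul_inv_cancel, Subgroup.coe_one, one_smul]
  refine ⟨{
      I := (chS ι v₁).range, v₁ := v₁, hv₁ := hv₁, E := E, hv₁E := (fun l hl => mem_stabS.1 hl),
      ψ := ψ, lift := lift, hlift := hlift, hlift1 := if_pos rfl,
      hfix := fun l hl u hu => hu l hl, hker := fun l hl u hu x hx => ?_,
      hinv := fun g hg u hu x hx => ?_, hconj := fun g hg _ l => hconj g hg l, hbij := hbij }, ?_, ?_, ?_⟩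
  · have h := (hψ l).1 hl x hx
    rw [smul_swap hιv, hu x hx, form_swap, h, inv_one, Units.val_one, one_smul K]
  · have hx' := hu _ (hS g⁻¹ (inv_smul_eq_iff.2 hg.symm) x hx)
    change (g⁻¹ * x * g⁻¹⁻¹) • u = u at hx'
    rw [inv_inv, mul_smul, mul_smul, inv_smul_eq_iff] at hx'
    exact hx'
  · let Φ : ((chS ι v₁).range → E) →ₗ[K] V :=
      { toFun := fun u => ∑ i, ((lift i : A) • (u i : V))
        map_add' := fun u w => by
          simp only [Pi.add_apply, Submodule.coe_add, smul_add, Finset.sum_add_distrib]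
        map_smul' := fun k u => by
          simp only [Pi.smul_apply, Submodule.coe_smul, soc_smul_comm hcomm, Finset.smul_sum,
            RingHom.id_apply] }
    rw [← (LinearEquiv.ofBijective Φ hbij).finrank_eq, Module.finrank_pi_fintype, Finset.sum_const,
      Finset.card_univ, smul_eq_mul, Nat.card_eq_fintype_card]
  · have hL : Nat.card (Soc Z) = Nat.card Z * (r * r) := by
      rw [← hr, ← Subgroup.relIndex_bot_left Z, Subgroup.relIndex_mul_relIndex ⊥ Z (Soc Z) bot_le
        (exists_socle hne).le, Subgroup.relIndex_bot_left]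
    have hRI : Nat.card (chS ι v₁).ker * Nat.card (chS ι v₁).range = Nat.card (Soc Z) := by
      rw [← Subgroup.index_ker, Subgroup.card_mul_index]
    change r = Nat.card (chS ι v₁).range ∨ r = 2 * Nat.card (chS ι v₁).range ∧ 2 ≤ Module.finrank K E
    rw [hcard] at hRI ⊢
    have hz0 : 0 < Nat.card Z := Nat.card_pos
    rcases hRcase with h | ⟨h, x, hx, y, hy, hxy⟩
    · left
      rw [h, hDcard, hL, mul_assoc] at hRI
      exact (Nat.mul_self_inj.1 (Nat.eq_of_mul_eq_mul_left hz0 hRI)).symm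
    · right
      refine ⟨?_, ?_⟩
      · rw [h, hDcard, hL] at hRI
        have e : Nat.card Z * ((2 * Nat.card (stabS Z v₁)) * (2 * Nat.card (stabS Z v₁))) =
            Nat.card Z * (r * r) := by rw [← hRI]; ring
        exact (Nat.mul_self_inj.1 (Nat.eq_of_mul_eq_mul_left hz0 e)).symm
      · by_contra hlt
        have hne0 : (⟨v₁, fun l hl => mem_stabS.1 hl⟩ : E) ≠ 0 := fun h => hv₁ (congrArg Subtype.val h)
        haveI : Nontrivial E := ⟨_, _, hne0⟩
        have h1 : Module.finrank K E = 1 := by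
          have := Module.finrank_pos (R := K) (M := E)
          omega
        have hscal : ∀ l ∈ (chS ι v₁).ker, ∃ a : K, a ≠ 0 ∧ ((l : Soc Z) : A) • v₁ = a • v₁ := by
          intro l hl
          have hlE : (l : A) • v₁ ∈ E := fun m hm => by
            have h := DFunLike.congr_fun (MonoidHom.mem_ker.1 hl) ⟨m, hm⟩
            rw [smul_swap hιv, mem_stabS.1 hm, form_swap, show form ι l m = 1 from h, inv_one,
              Units.val_one, one_smul K]
          obtain ⟨a, ha⟩ := (finrank_eq_one_iff_of_nonzero' _ hne0).1 h1 ⟨_, hlE⟩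
          refine ⟨a, ?_, (congrArg Subtype.val ha).symm⟩
          rintro rfl
          rw [zero_smul] at ha
          exact hv₁ ((smul_eq_zero_iff_eq _).1 (congrArg Subtype.val ha).symm)
        obtain ⟨a, ha0, ha⟩ := hscal x hx
        obtain ⟨b, hb0, hb⟩ := hscal y hy
        have h2 := smul_swap hιv x y v₁
        rw [hb, soc_smul_comm hcomm, ha, soc_smul_comm hcomm, hb, smul_smul, smul_smul, smul_smul] at h2
        have h3 := smul_left_injective K hv₁ h2
        refine hxy (Units.ext ?_)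
        rw [Units.val_one]
        have h4 : (b * a) * ((form ι x y : Kˣ) : K) = (b * a) * 1 := by rw [mul_one]; linear_combination -h3
        exact mul_left_cancel₀ (mul_ne_zero hb0 ha0) h4
  · intro h1 l hl v hv
    change Nat.card (chS ι v₁).range = 1 at h1
    rw [hcard] at h1
    by_contra hv0
    have hle := hmaxv v hv0
    rw [h1] at hle
    have : stabS Z v = ⊥ := Subgroup.eq_bot_of_card_le _ hle
    exact hl ((Subgroup.eq_bot_iff_forall _).1 this l hv)

/-- The criterion: a colouring that rigidifies the frame gives a regular triple. -/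
theorem Frame.triple_of_colouring (F : Frame A Z K V) (a₀ : F.E) (z : F.I → F.E) (y : F.I → Bool)
    (hz : ∀ i, i ≠ 1 → y i = false → (z i : V) = F.v₁)
    (hrigid : ∀ (g : A) (π : F.I →* F.I), g • F.v₁ = F.v₁ → g • (a₀ : V) = a₀ →
      g • (z 1 : V) = z 1 → Function.Injective π → (∀ i, i ≠ 1 → y (π i) = y i) →
      (∀ i, i ≠ 1 → g • (z i : V) = z (π i)) →
      (∀ i, π i = i) ∧ ∀ u ∈ F.E, g • u = u) : Triple A V := by
  classical
  let Φ : (F.I → F.E) → V := fun u => ∑ i, ((F.lift i : A) • (u i : V))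
  let Yv : F.I → F.E := fun i => if i = 1 then a₀ else if y i then ⟨F.v₁, F.hv₁E⟩ else 0
  refine ⟨F.v₁, Φ Yv, Φ z, fun g hg hY hZ' w => ?_⟩
  have hker : ∀ l : Soc Z, F.ψ l = 1 → F.ψ (conjL g l) = 1 := F.hconj g hg inferInstance
  let π₀ : F.I → F.I := fun i => F.ψ (conjL g (F.lift i))
  have hπψ : ∀ l, π₀ (F.ψ l) = F.ψ (conjL g l) := by
    intro l
    have h1 : F.ψ ((F.lift (F.ψ l))⁻¹ * l) = 1 := by rw [map_mul, map_inv, F.hlift, inv_mul_cancel]
    have h2 := hker _ h1
    conv_rhs => rw [← mul_inv_cancel_left (F.lift (F.ψ l)) l, conjL_mul, map_mul, h2, mul_one]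
  let π : F.I →* F.I := MonoidHom.mk' π₀ fun i j => by
    conv_lhs => rw [← F.hlift i, ← F.hlift j, ← map_mul, hπψ, conjL_mul, map_mul]
  have hπinj : Function.Injective π := by
    rw [injective_iff_map_eq_one]
    intro i hi
    have hg' : g⁻¹ • F.v₁ = F.v₁ := inv_smul_eq_iff.2 hg.symm
    have h2 := F.hconj g⁻¹ hg' inferInstance _ hi
    rwa [conjL_conjL, inv_mul_cancel, conjL_one_left, F.hlift] at h2
  have hπ1 : π 1 = 1 := map_one π
  let ρ : F.I → Soc Z := fun i => (F.lift (π i))⁻¹ * conjL g (F.lift i)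
  have hρker : ∀ i, F.ψ (ρ i) = 1 := fun i => by
    rw [map_mul, map_inv, F.hlift]; exact inv_mul_cancel _
  have hπb : Function.Bijective π := Finite.injective_iff_bijective.1 hπinj
  have hmoved : ∀ u : F.I → F.E, g • Φ u = Φ u →
      ∀ i, (ρ i : A) • g • (u i : V) = u (π i) := by
    intro u hu
    let e := Equiv.ofBijective π hπb
    let u' : F.I → F.E := fun j => ⟨(ρ (e.symm j) : A) • g • (u (e.symm j) : V),
      F.hker _ (hρker _) _ (F.hinv g hg _ (u (e.symm j)).2)⟩
    have h1 : Φ u' = g • Φ u := by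
      simp only [Φ, Finset.smul_sum]
      refine Fintype.sum_equiv e.symm _ _ fun j => ?_
      change (F.lift j : A) • (ρ (e.symm j) : A) • g • (u (e.symm j) : V) = _
      have hj : π (e.symm j) = j := e.apply_symm_apply j
      simp only [ρ, hj, Subgroup.coe_mul, Subgroup.coe_inv, conjL, mul_smul, smul_inv_smul, inv_smul_smul]
    rw [hu] at h1
    intro i
    have h2 := congrArg Subtype.val (congrFun (F.hbij.1 h1) (π i))
    change (ρ (e.symm (π i)) : A) • g • (u (e.symm (π i)) : V) = u (π i) at h2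
    rwa [show e.symm (π i) = i from e.symm_apply_apply i] at h2
  have hYi := hmoved Yv hY
  have hZi := hmoved z hZ'
  have hρ1 : ρ 1 = 1 := by
    simp only [ρ, hπ1, F.hlift1, conjL_one, inv_one, mul_one]
  have hπne : ∀ i, i ≠ 1 → π i ≠ 1 := fun i hi h => hi (hπinj (h.trans hπ1.symm))
  have ha₀ : g • (a₀ : V) = a₀ := by
    have h := hYi 1
    simp only [Yv, if_pos, hπ1, hρ1, Subgroup.coe_one, one_smul] at h
    exact h
  have hz1 : g • (z 1 : V) = z 1 := by
    have h := hZi 1
    simp only [hπ1, hρ1, Subgroup.coe_one, one_smul] at h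
    exact h
  have hy : ∀ i, i ≠ 1 → y (π i) = y i := by
    intro i hi
    have h := hYi i
    simp only [Yv, if_neg hi, if_neg (hπne i hi)] at h
    cases h1 : y i <;> cases h2 : y (π i)
    · rfl
    · simp only [h1, h2, if_true, Bool.false_eq_true, if_false] at h
      rw [ZeroMemClass.coe_zero, smul_zero, smul_zero] at h
      exact absurd h.symm F.hv₁
    · simp only [h1, h2, if_true, Bool.false_eq_true, if_false] at h
      rw [ZeroMemClass.coe_zero, hg] at h
      exact absurd ((smul_eq_zero_iff_eq _).1 h) F.hv₁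
    · rfl
  have hρfix : ∀ i, (ρ i : A) • F.v₁ = F.v₁ := by
    intro i
    by_cases hi : i = 1
    · rw [hi, hρ1, Subgroup.coe_one, one_smul]
    cases h1 : y i
    · have h := hZi i
      rw [hz i hi h1, hz _ (hπne i hi) ((hy i hi).trans h1), hg] at h
      exact h
    · have h := hYi i
      simp only [Yv, if_neg hi, if_neg (hπne i hi), (hy i hi).trans h1, h1, if_true, hg] at h
      exact h
  have hgz : ∀ i, i ≠ 1 → g • (z i : V) = z (π i) := fun i _ => by
    have h := hZi i
    rwa [F.hfix (ρ i) (hρfix i) _ (F.hinv g hg _ (z i).2)] at h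
  obtain ⟨hid, hE⟩ := hrigid g π hg ha₀ hz1 hπinj hy hgz
  obtain ⟨u, rfl⟩ := F.hbij.2 w
  simp only [Finset.smul_sum]
  refine Finset.sum_congr rfl fun i _ => ?_
  have h1 : (ρ i : A) • (u i : V) = u i := F.hfix _ (hρfix i) _ (u i).2
  simp only [ρ, hid i, Subgroup.coe_mul, Subgroup.coe_inv, conjL, mul_smul, inv_smul_eq_iff] at h1
  conv_rhs => rw [← h1]
  rw [inv_smul_eq_iff.2 (hE _ (u i).2).symm]

end Cfsg.Lib.SolvBase
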