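import Cfsg.Agent.OddBase.Basic

/-!
Triples of vectors with trivial common stabiliser: definitions and counting.
-/

set_option autoImplicit false

namespace Cfsg.Lib.SolvBase

open Cfsg.Lib.OddBase

universe u v

/-- Three vectors whose common stabiliser acts trivially. -/
def Triple (A : Type u) (V : Type v) [Group A] [AddCommGroup V] [DistribMulAction A V] : Prop :=
  ∃ x y z : V, ∀ a : A, a • x = x → a • y = y → a • z = z → ∀ w : V, a • w = w

/-- The induction hypothesis: the theorem for all solvable groups of order below `n`. -/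
def Below3 (n : ℕ) : Prop :=
  ∀ (A V : Type u) [Group A] [Finite A] [AddCommGroup V] [Finite V] [DistribMulAction A V],
    Nat.card A < n → Group.IsSolvable A → CR A V → Triple A V

variable {A : Type u} {V : Type v} [Group A] [AddCommGroup V] [DistribMulAction A V]

/-- A pair is a triple. -/
theorem triple_of_pair (h : Pair A V) : Triple A V := by
  obtain ⟨x, y, hxy⟩ := h
  exact ⟨x, y, 0, fun a h1 h2 _ => hxy a h1 h2⟩

/-- Counting: if the non-trivial elements fix fewer triples than there are, a regular triple exists. -/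
theorem triple_of_sum [Fintype A] [DecidableEq A] [Finite V]
    (h : ∑ a ∈ (Finset.univ.erase (1 : A)), (Nat.card (fixes (V := V) a)) ^ 3 < Nat.card V ^ 3) :
    Triple A V := by
  classical
  haveI := Fintype.ofFinite V
  by_contra hno
  have hall : ∀ p : V × V × V, ∃ a : A, a ≠ 1 ∧ a • p.1 = p.1 ∧ a • p.2.1 = p.2.1 ∧ a • p.2.2 = p.2.2 := by
    intro p
    by_contra hp
    push Not at hp
    refine hno ⟨p.1, p.2.1, p.2.2, fun a h1 h2 h3 x => ?_⟩
    by_cases ha : a = 1
    · rw [ha, one_smul]
    · exact absurd h3 (hp a ha h1 h2)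
  let F : A → Finset (V × V × V) := fun a =>
    Finset.univ.filter fun p => a • p.1 = p.1 ∧ a • p.2.1 = p.2.1 ∧ a • p.2.2 = p.2.2
  have hcov : (Finset.univ : Finset (V × V × V)) ⊆ (Finset.univ.erase (1 : A)).biUnion F := by
    intro p _
    obtain ⟨a, ha, h1, h2, h3⟩ := hall p
    simp only [Finset.mem_biUnion, Finset.mem_erase, Finset.mem_univ, and_true]
    exact ⟨a, ha, by simp [F, h1, h2, h3]⟩
  have h1 := (Finset.card_le_card hcov).trans Finset.card_biUnion_le
  have hF : ∀ a : A, (F a).card = (Nat.card (fixes (V := V) a)) ^ 3 := by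
    intro a
    have : F a = (Finset.univ.filter fun x : V => a • x = x) ×ˢ
        ((Finset.univ.filter fun x : V => a • x = x) ×ˢ (Finset.univ.filter fun x : V => a • x = x)) := by
      ext p; simp [F]
    have hc : Nat.card (fixes (V := V) a) = (Finset.univ.filter fun x : V => a • x = x).card := by
      rw [Nat.card_eq_fintype_card, Fintype.card_subtype]
      rfl
    rw [this, Finset.card_product, Finset.card_product, hc, pow_three]
  simp only [hF, Finset.card_univ, Fintype.card_prod] at h1
  rw [pow_three (Nat.card V), Nat.card_eq_fintype_card] at h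
  exact absurd h (not_lt.2 h1)

/-- The uniform counting criterion. -/
theorem triple_of_count [Finite A] [Finite V] (h : ∀ a : A, a ≠ 1 →
    (Nat.card (fixes (V := V) a)) ^ 3 * Nat.card A ≤ Nat.card V ^ 3) : Triple A V := by
  classical
  haveI := Fintype.ofFinite A
  refine triple_of_sum ?_
  have hA : 0 < Nat.card A := Nat.card_pos
  refine Nat.lt_of_mul_lt_mul_right (a := Nat.card A) ?_
  rw [Finset.sum_mul]
  refine lt_of_le_of_lt (Finset.sum_le_card_nsmul _ _ (Nat.card V ^ 3) fun a ha => ?_) ?_
  · exact h a (Finset.ne_of_mem_erase ha)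
  · rw [smul_eq_mul, Finset.card_erase_of_mem (Finset.mem_univ _), Finset.card_univ,
      ← Nat.card_eq_fintype_card, mul_comm]
    exact Nat.mul_lt_mul_of_pos_left (by omega) (pow_pos Nat.card_pos 3)

end Cfsg.Lib.SolvBase
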