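import Cfsg.Agent.SolvBase.Five
import Cfsg.Agent.OddBase.Decomp
import Cfsg.Agent.S0548

/-!
A primitive solvable permutation group is distinguished by five colours.
-/

set_option autoImplicit false
set_option linter.unusedSectionVars false

namespace Cfsg.Lib.SolvBase

open Cfsg.Lib.OddBase

universe u

/-- Five colours distinguish a solvable primitive permutation group. -/
theorem dist_primitive {N : ℕ} (hb : Below3.{u} N) {G : Type u} {α : Type*} [Group G] [Finite G]
    [Group.IsSolvable G] [MulAction G α] [FaithfulSMul G α] [Finite α] [Nontrivial α]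
    (hprim : MulAction.IsPreprimitive G α) (hN : Nat.card G ≤ N) :
    ∃ c : α → Fin 5, ∀ g : G, (∀ x, c (g • x) = c x) → g = 1 := by
  classical
  haveI := hprim
  obtain ⟨a, b, hab⟩ := exists_pair_ne α
  obtain ⟨g₀, hg₀⟩ := MulAction.exists_smul_eq G a b
  haveI : Nontrivial G := ⟨g₀, 1, fun h => hab (by rw [← hg₀, h, one_smul])⟩
  obtain ⟨M, -, hMn, hMne, hmin⟩ :=
    Cfsg.Lib.Coprime.exists_minimal_normal (G := G) (K := ⊤) inferInstance top_ne_bot
  haveI := hMn
  haveI : Nonempty α := ⟨a⟩
  obtain ⟨htr, hst, -⟩ := Cfsg.Agent.S0547.result (G := G) (Ω := α) hprim M hMne hmin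
  haveI := htr
  obtain ⟨hcomp, hcent, hirr⟩ := Cfsg.Agent.S0548.result hprim M hMne hmin a
  obtain ⟨hc, -⟩ := Cfsg.Lib.Coprime.minimal_normal_solvable (N := M) inferInstance hMne hmin
  haveI := hc
  let H := MulAction.stabilizer G a
  letI : CommGroup M := { (inferInstance : Group M) with mul_comm := mul_comm' }
  let φ : H →* MulAut M := (MulAut.conjNormal : G →* MulAut M).comp H.subtype
  letI : DistribMulAction H (Additive M) :=
    { smul := fun h x => Additive.ofMul (φ h (Additive.toMul x))
      one_smul := fun x => by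
        change Additive.ofMul (φ 1 (Additive.toMul x)) = x
        rw [map_one]; rfl
      mul_smul := fun g h x => by
        change Additive.ofMul (φ (g * h) (Additive.toMul x)) =
          Additive.ofMul (φ g (φ h (Additive.toMul x)))
        rw [map_mul]; rfl
      smul_zero := fun h => congrArg Additive.ofMul (map_one (φ h))
      smul_add := fun h x y => congrArg Additive.ofMul (map_mul (φ h) _ _) }
  have hval : ∀ (h : H) (m : M), ((φ h m : M) : G) = (h : G) * m * (h : G)⁻¹ := fun h m =>
    MulAut.conjNormal_apply _ _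
  have hcr : CR H (Additive M) := cr_of_irr fun U hU => by
    let K : Subgroup G := (AddSubgroup.toSubgroup' U).map M.subtype
    have hK : ∀ h : G, h ∈ H → ∀ x ∈ K, h * x * h⁻¹ ∈ K := by
      rintro h hh _ ⟨m, hm, rfl⟩
      exact ⟨φ ⟨h, hh⟩ m, hU ⟨h, hh⟩ (Additive.ofMul m) hm, hval _ _⟩
    rcases hirr K (Subgroup.map_subtype_le _) (fun h hh => Subgroup.mem_normalizer_iff.2 fun x =>
      ⟨hK h hh x, fun hx => by
        have := hK h⁻¹ (inv_mem hh) _ hx
        simpa [mul_assoc] using this⟩) with hK0 | hK1
    · left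
      rw [eq_bot_iff]
      intro m hm
      have : ((Additive.toMul m : M) : G) ∈ K := ⟨Additive.toMul m, hm, rfl⟩
      rw [hK0, Subgroup.mem_bot] at this
      exact AddSubgroup.mem_bot.2 (Additive.toMul.injective (Subtype.ext this))
    · right
      rw [eq_top_iff]
      intro m _
      have : ((Additive.toMul m : M) : G) ∈ K := hK1.ge (Additive.toMul m).2
      obtain ⟨m', hm', he⟩ := this
      have he' : m' = Additive.toMul m := Subtype.ext he
      rw [he'] at hm'
      exact hm'
  have hlt : Nat.card H < N := by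
    refine lt_of_lt_of_le ?_ hN
    rw [← hcomp.card_mul]
    exact lt_mul_of_one_lt_left Nat.card_pos ((Subgroup.one_lt_card_iff_ne_bot _).2 hMne)
  obtain ⟨m₁, m₂, m₃, hm⟩ := hb H (Additive M) hlt inferInstance hcr
  let pt : Additive M → α := fun m => ((Additive.toMul m : M) : G) • a
  refine ⟨fun x => if x = a then 0 else if x = pt m₁ then 1 else if x = pt m₂ then 2 else
    if x = pt m₃ then 3 else 4, fun g hg => ?_⟩
  have h0 : g • a = a := by
    have h := hg a
    simp only [if_true] at h
    by_contra hne
    rw [if_neg hne] at h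
    split_ifs at h <;> simp at h
  have h1 : g • pt m₁ = pt m₁ := by
    by_cases he : pt m₁ = a
    · rw [he, h0]
    have h := hg (pt m₁)
    dsimp only at h
    rw [if_neg he] at h
    simp only [if_true] at h
    by_contra hne
    split_ifs at h <;> simp at h
  have h2 : g • pt m₂ = pt m₂ := by
    by_cases he : pt m₂ = a
    · rw [he, h0]
    by_cases he1 : pt m₂ = pt m₁
    · rw [he1, h1]
    have h := hg (pt m₂)
    dsimp only at h
    rw [if_neg he, if_neg he1] at h
    simp only [if_true] at h
    by_contra hne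
    split_ifs at h <;> simp at h
  have h3 : g • pt m₃ = pt m₃ := by
    by_cases he : pt m₃ = a
    · rw [he, h0]
    by_cases he1 : pt m₃ = pt m₁
    · rw [he1, h1]
    by_cases he2 : pt m₃ = pt m₂
    · rw [he2, h2]
    have h := hg (pt m₃)
    dsimp only at h
    rw [if_neg he, if_neg he1, if_neg he2] at h
    simp only [if_true] at h
    by_contra hne
    split_ifs at h <;> simp at h
  let h : H := ⟨g, h0⟩
  have hinj : ∀ x y : M, (x : G) • a = (y : G) • a → x = y := by
    intro x y he
    have : y⁻¹ * x ∈ MulAction.stabilizer M a := by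
      rw [MulAction.mem_stabilizer_iff, mul_smul, inv_smul_eq_iff]
      exact he
    rw [hst, Subgroup.mem_bot] at this
    exact (inv_mul_eq_one.1 this).symm
  have hfix : ∀ m : Additive M, g • pt m = pt m → h • m = m := by
    intro m hm'
    refine Additive.toMul.injective (hinj (φ h (Additive.toMul m)) (Additive.toMul m) ?_)
    rw [hval, mul_smul, mul_smul]
    change g • (((Additive.toMul m : M) : G) • (g⁻¹ • a)) = _
    rw [inv_smul_eq_iff.2 h0.symm]
    exact hm'
  have hg' : g ∈ MulAction.stabilizer G a ⊓ Subgroup.centralizer (M : Set G) := by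
    refine ⟨h0, Subgroup.mem_centralizer_iff.2 fun x hx => ?_⟩
    have := congrArg (fun z : Additive M => ((Additive.toMul z : M) : G))
      (hm h (hfix _ h1) (hfix _ h2) (hfix _ h3) (Additive.ofMul ⟨x, hx⟩))
    change ((φ h ⟨x, hx⟩ : M) : G) = x at this
    rw [hval, mul_inv_eq_iff_eq_mul] at this
    exact this.symm
  rw [hcent, Subgroup.mem_bot] at hg'
  exact hg'

end Cfsg.Lib.SolvBase
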