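import Cfsg.Agent.SolvBase.Lagrangian

/-!
The orthogonal of a maximal stabiliser has index one or four over it.
-/

set_option autoImplicit false
set_option linter.unusedSectionVars false

namespace Cfsg.Lib.SolvBase

open Subgroup Cfsg.Lib.OddBase
open scoped Pointwise commutatorElement

universe u

variable {A : Type u} [Group A] [Finite A] [Group.IsSolvable A] {Z : Subgroup A} [Z.Normal]
  [IsMulCommutative Z] {K : Type u} [Field K] [Finite K] {V : Type u} [AddCommGroup V] [Finite V]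
  [DistribMulAction A V] [Module K V] {ι : Z →* Kˣ}

/-- The orthogonal of the stabiliser is the stabiliser, or four times it. -/
theorem radical_cases (hι : Function.Injective ι)
    (hιv : ∀ (z : Z) (v : V), ((ι z : Kˣ) : K) • v = (z : A) • v)
    (hcomm : ∀ g ∈ Subgroup.centralizer (Z : Set A), ∀ (k : K) (v : V), g • (k • v) = k • (g • v))
    (hmax : MaxAbelian Z) (hne : ¬ Subgroup.centralizer (Z : Set A) ≤ Z)
    {v₁ : V} (hv₁ : v₁ ≠ 0)
    (hmaxv : ∀ w : V, w ≠ 0 → Nat.card (stabS Z w) ≤ Nat.card (stabS Z v₁)) :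
    Nat.card (Z.subgroupOf (Soc Z) ⊔ stabS Z v₁ : Subgroup (Soc Z)) =
        Nat.card Z * Nat.card (stabS Z v₁) ∧
      ((chS ι v₁).ker = Z.subgroupOf (Soc Z) ⊔ stabS Z v₁ ∨
        (Nat.card (chS ι v₁).ker =
            4 * Nat.card (Z.subgroupOf (Soc Z) ⊔ stabS Z v₁ : Subgroup (Soc Z)) ∧
          ∃ x ∈ (chS ι v₁).ker, ∃ y ∈ (chS ι v₁).ker, form ι x y ≠ 1)) := by
  classical
  have hZL : Z ≤ Soc Z := (exists_socle hne).le
  set Z' := Z.subgroupOf (Soc Z) with hZ'
  set S := stabS Z v₁ with hS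
  set D := Z' ⊔ S with hD
  set R := (chS ι v₁).ker with hR
  haveI : Z'.Normal := Subgroup.Normal.subgroupOf inferInstance (Soc Z)
  have hZS : ∀ l : (Soc Z), (l : A) ∈ Z → l ∈ S → l = 1 := by
    intro l hlZ hlS
    have h2 := hιv ⟨_, hlZ⟩ v₁
    rw [show (l : A) • v₁ = v₁ from hlS] at h2
    have h3 : ((ι ⟨_, hlZ⟩ : Kˣ) : K) = 1 := smul_left_injective K hv₁ (h2.trans (one_smul K v₁).symm)
    have h4 : (⟨_, hlZ⟩ : Z) = 1 := hι (Units.ext (by rw [h3, map_one, Units.val_one]))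
    exact Subtype.ext (congrArg Subtype.val h4 : _)
  have hmemR : ∀ l : (Soc Z), l ∈ R ↔ ∀ x ∈ S, form ι l x = 1 := fun l =>
    ⟨fun h x hx => DFunLike.congr_fun (h : chS ι v₁ l = 1) ⟨x, hx⟩,
      fun h => MonoidHom.ext fun x => h x x.2⟩
  have horth : ∀ r ∈ R, ∀ d ∈ D, form ι r d = 1 := by
    intro r hr d hd
    have hle : D ≤ (formHom ι r).ker :=
      sup_le (fun z hz => form_of_mem hι r z hz) fun x hx => (hmemR r).1 hr x hx
    exact hle hd
  have hDR : D ≤ R := by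
    refine sup_le (fun z hz => (hmemR z).2 fun x _ => ?_) fun s hs => (hmemR s).2 fun x hx => ?_
    · rw [form_swap, form_of_mem hι x z hz, inv_one]
    · have h := smul_swap hιv s x v₁
      rw [mem_stabS.1 hx, mem_stabS.1 hs, mem_stabS.1 hx] at h
      exact Units.ext (smul_left_injective K hv₁ (h.symm.trans (one_smul K v₁).symm))
  have hDcard : Nat.card D = Nat.card Z * Nat.card S := by
    have hinj : Function.Injective fun p : Z' × S => (⟨(p.1 : (Soc Z)) * p.2,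
        mul_mem (Subgroup.mem_sup_left p.1.2) (Subgroup.mem_sup_right p.2.2)⟩ : D) := by
      rintro ⟨z, s⟩ ⟨z', s'⟩ he
      have he' : (z : (Soc Z)) * s = z' * s' := congrArg Subtype.val he
      have h1 : (z' : (Soc Z))⁻¹ * z = s' * (s : (Soc Z))⁻¹ := by
        rw [inv_mul_eq_iff_eq_mul, ← mul_assoc, ← he', mul_inv_cancel_right]
      have h2 : (z' : (Soc Z))⁻¹ * z = 1 := hZS _ (show (z' : (Soc Z))⁻¹ * z ∈ Z' from mul_mem (inv_mem z'.2) z.2)
        (h1 ▸ mul_mem s'.2 (inv_mem s.2))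
      have h3 : z' = z := Subtype.ext (inv_mul_eq_one.1 h2)
      subst h3
      exact Prod.ext rfl (Subtype.ext (mul_left_cancel he'))
    have hsurj : Function.Surjective fun p : Z' × S => (⟨(p.1 : (Soc Z)) * p.2,
        mul_mem (Subgroup.mem_sup_left p.1.2) (Subgroup.mem_sup_right p.2.2)⟩ : D) := by
      rintro ⟨d, hd⟩
      have hd' : d ∈ (Z' : Set (Soc Z)) * (S : Set (Soc Z)) := by
        rw [← Subgroup.normal_mul]; exact hd
      obtain ⟨z, hz, s, hs, rfl⟩ := hd'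
      exact ⟨(⟨z, hz⟩, ⟨s, hs⟩), rfl⟩
    rw [← Nat.card_eq_of_bijective _ ⟨hinj, hsurj⟩, Nat.card_prod,
      Nat.card_congr (Subgroup.subgroupOfEquivOfLe hZL).toEquiv]
  refine ⟨hDcard, ?_⟩
  obtain ⟨hcard, hchar, hn0⟩ := card_chS_range hι hιv hmax hne hv₁
  -- the centre of the orthogonal
  have hcenter : ∀ x ∈ R, (∀ r ∈ R, form ι x r = 1) → x ∈ D := by
    intro x hx hxR
    let χ : (chS ι v₁).range →* Kˣ :=
      (QuotientGroup.lift R (formHom ι x) fun r hr => hxR r hr).comp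
        (QuotientGroup.quotientKerEquivRange (chS ι v₁)).symm.toMonoidHom
    obtain ⟨s, hs⟩ := hchar χ
    have hχ : ∀ m : (Soc Z), form ι m s = form ι x m := by
      intro m
      have h := hs ⟨_, m, rfl⟩
      have e : (QuotientGroup.quotientKerEquivRange (chS ι v₁)).symm ⟨_, m, rfl⟩ = QuotientGroup.mk m := by
        rw [MulEquiv.symm_apply_eq]; rfl
      rw [show χ ⟨_, m, rfl⟩ = form ι x m by
        simp only [χ, MonoidHom.comp_apply, MulEquiv.coe_toMonoidHom, e]; rfl] at h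
      exact h.symm
    have hz : ((x * (s : (Soc Z)) : (Soc Z)) : A) ∈ Z := soc_mem_center hι hmax hne _ fun m => by
      rw [form_mul_left, ← hχ m, form_swap ι (s : (Soc Z)) m, inv_mul_cancel]
    rw [show x = (x * (s : (Soc Z))) * (s : (Soc Z))⁻¹ from (mul_inv_cancel_right _ _).symm]
    exact mul_mem (Subgroup.mem_sup_left (show x * (s : (Soc Z)) ∈ Z' from hz)) (Subgroup.mem_sup_right (inv_mem s.2))
  have hexists : ∀ x ∈ R, x ∉ D → ∃ y ∈ R, form ι x y ≠ 1 := by
    intro x hx hxD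
    by_contra h
    push Not at h
    exact hxD (hcenter x hx h)
  -- two classes modulo powers
  obtain ⟨ω, hω⟩ : ∃ g : Z, ∀ z : Z, ∃ i : ℕ, g ^ i = z := by
    haveI : IsCyclic Z := isCyclic_of_subgroup_isDomain ((Units.coeHom K).comp ι)
      (Units.val_injective.comp hι)
    obtain ⟨g, hg⟩ := IsCyclic.exists_monoid_generator (α := Z)
    exact ⟨g, fun z => Submonoid.mem_powers_iff _ _ |>.1 (hg z)⟩
  have hcenZ : ∀ z l : (Soc Z), (z : A) ∈ Z → Commute z l := fun z l hz =>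
    Subtype.ext (socle_central l.2 hz)
  have hdec : ∀ {x : (Soc Z)}, x ∈ D → ∃ z : (Soc Z), (z : A) ∈ Z ∧ z⁻¹ * x ∈ S := by
    intro x hx
    have hx' : x ∈ (Z' : Set (Soc Z)) * (S : Set (Soc Z)) := by
      rw [← Subgroup.normal_mul]; exact hx
    obtain ⟨z, hz, s, hs, rfl⟩ := hx'
    exact ⟨z, hz, by rw [inv_mul_cancel_left]; exact hs⟩
  have hpow : ∀ x ∈ R, ∀ s : ℕ, s.Prime → s ∣ Nat.card Z → ∀ z : (Soc Z), (z : A) ∈ Z →
      (z ^ s)⁻¹ * x ^ s ∈ S → x ∈ D := fun x hx s hs hsz z hz h =>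
    mem_dom_of_pow hι hιv hcomm hv₁ hmaxv hZL hx hs hsz hz h
  let w : (Soc Z) := ⟨ω, hZL ω.2⟩
  have hw : ∀ z : (Soc Z), (z : A) ∈ Z → ∃ i : ℕ, w ^ i = z := fun z hz => by
    obtain ⟨i, hi⟩ := hω ⟨z, hz⟩
    refine ⟨i, Subtype.ext ?_⟩
    rw [Subgroup.coe_pow]
    exact (Subgroup.coe_pow Z ω i).symm.trans (congrArg Subtype.val hi)
  have hwZ : ∀ i : ℕ, ((w ^ i : (Soc Z)) : A) ∈ Z := fun i => by
    rw [Subgroup.coe_pow]; exact pow_mem ω.2 i
  have hline : ∀ x ∈ R, ∀ y ∈ R, x ∉ D → ∀ s : ℕ, s.Prime → s ∣ Nat.card Z → x ^ s ∈ D →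
      y ^ s ∈ D → (Odd s ∨ form ι x y = 1) → ∃ i : ℕ, y * x ^ i ∈ D := by
    intro x hx y hy hxD s hs hsz hxs hys hodd
    obtain ⟨zx, hzx, hsx⟩ := hdec hxs
    obtain ⟨zy, hzy, hsy⟩ := hdec hys
    obtain ⟨i₁, rfl⟩ := hw zx hzx
    obtain ⟨i₂, rfl⟩ := hw zy hzy
    have hcop : Nat.Coprime i₁ s := by
      rw [Nat.coprime_comm]
      refine hs.coprime_iff_not_dvd.2 fun ⟨t, ht⟩ => hxD (hpow x hx s hs hsz (w ^ t) (hwZ t) ?_)
      rw [← pow_mul, mul_comm t s, ← ht]; exact hsx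
    obtain ⟨i, hi⟩ : ∃ i : ℕ, s ∣ i₂ + i₁ * i := by
      obtain ⟨a, ha⟩ := Nat.exists_mul_mod_eq_one_of_coprime hcop hs.one_lt
      refine ⟨a * (s - 1) * i₂, Nat.dvd_of_mod_eq_zero ?_⟩
      have e : i₂ + i₁ * (a * (s - 1) * i₂) = i₂ + (i₁ * a) * ((s - 1) * i₂) := by ring
      have e2 : i₂ + (s - 1) * i₂ = s * i₂ := by
        obtain ⟨t, rfl⟩ := Nat.exists_eq_succ_of_ne_zero hs.ne_zero
        simp; ring
      rw [e, Nat.add_mod, Nat.mul_mod, ha.2, one_mul, Nat.mod_mod, ← Nat.add_mod, e2,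
        Nat.mul_mod_right]
    obtain ⟨t, ht⟩ := hi
    refine ⟨i, hpow _ (mul_mem hy (pow_mem hx i)) s hs hsz (w ^ t) (hwZ t) ?_⟩
    -- the power of the product
    set b := x ^ i with hb
    obtain ⟨c, hc, hcby, hcs⟩ : ∃ c : (Soc Z), (c : A) ∈ Z ∧ b * y = c * (y * b) ∧ (c ^ s = 1 ∧ (c = 1 ∨ Odd s)) := by
      have hc : ((b * y * (y * b)⁻¹ : (Soc Z)) : A) ∈ Z := by
        have h := socle_comm (Subgroup.commutator_mem_commutator b.2 y.2)
        rw [commutatorElement_def] at h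
        simpa only [mul_inv_rev, Subgroup.coe_mul, Subgroup.coe_inv, mul_assoc] using h
      refine ⟨b * y * (y * b)⁻¹, hc, (inv_mul_cancel_right _ _).symm, ?_⟩
      have hform : ∀ l m : (Soc Z), ∀ h : ((l * m * (m * l)⁻¹ : (Soc Z)) : A) ∈ Z, ι ⟨_, h⟩ = form ι l m := by
        intro l m h
        rw [form]; congr 1; apply Subtype.ext
        simp only [mul_inv_rev, Subgroup.coe_mul, Subgroup.coe_inv]
        group
      have hbs : form ι b y ^ s = 1 := by
        rw [← form_pow_left, hb, ← pow_mul, mul_comm, pow_mul, form_pow_left, form_swap, horth y hy _ hxs,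
          inv_one, one_pow]
      refine ⟨?_, ?_⟩
      · rw [← hform b y hc, ← map_pow, map_eq_one_iff ι hι] at hbs
        apply Subtype.ext
        rw [Subgroup.coe_pow]
        exact (Subgroup.coe_pow Z ⟨_, hc⟩ s).symm.trans (congrArg Subtype.val hbs)
      · rcases hodd with h | h
        · exact Or.inr h
        · left
          rw [mul_inv_eq_one, ← form_comm hι, hb, form_pow_left, h, one_pow]
    -- collecting
    have hyb : ∀ k : ℕ, (y * b) ^ k = c ^ (k.choose 2) * (y ^ k * b ^ k) := by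
      have hbk : ∀ k : ℕ, b ^ k * y = c ^ k * (y * b ^ k) := by
        intro k
        induction k with
        | zero => simp
        | succ k ih =>
          rw [pow_succ', mul_assoc, ih, ← mul_assoc, ((hcenZ (c ^ k) b) (by
            rw [Subgroup.coe_pow]; exact pow_mem hc k)).eq.symm, mul_assoc, ← mul_assoc b, hcby]
          rw [pow_succ c]
          simp only [mul_assoc]
      intro k
      induction k with
      | zero => simp
      | succ k ih =>
        rw [pow_succ, ih, show (k + 1).choose 2 = k + k.choose 2 by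
            rw [Nat.choose_succ_succ, Nat.choose_one_right], pow_add c,
          pow_succ y, pow_succ b]
        have hck : ((c ^ k : (Soc Z)) : A) ∈ Z := by rw [Subgroup.coe_pow]; exact pow_mem hc k
        calc c ^ k.choose 2 * (y ^ k * b ^ k) * (y * b)
            = c ^ k.choose 2 * (y ^ k * (b ^ k * y) * b) := by simp only [mul_assoc]
          _ = c ^ k.choose 2 * ((y ^ k * c ^ k) * (y * b ^ k * b)) := by rw [hbk]; simp only [mul_assoc]
          _ = c ^ k.choose 2 * ((c ^ k * y ^ k) * (y * b ^ k * b)) := by rw [(hcenZ _ (y ^ k) hck).eq]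
          _ = _ := by
            rw [((hcenZ _ _ hck).eq : c ^ k * c ^ k.choose 2 = _)]
            simp only [mul_assoc]
    have hcz : c ^ s.choose 2 = 1 := by
      rcases hcs.2 with h | ⟨m, hm⟩
      · rw [h, one_pow]
      · rw [Nat.choose_two_right, hm, show (2 * m + 1) * (2 * m + 1 - 1) / 2 = (2 * m + 1) * m by
          rw [Nat.add_sub_cancel, show (2 * m + 1) * (2 * m) = 2 * ((2 * m + 1) * m) by ring,
            Nat.mul_div_cancel_left _ (by norm_num : 0 < 2)],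
          pow_mul, ← hm, hcs.1, one_pow]
    rw [hyb, hcz, one_mul, hb, ← pow_mul x, mul_comm i s, pow_mul x, ← pow_mul w, mul_comm t s, ← ht,
      pow_add, pow_mul w, (hcenZ _ ((w ^ i₁) ^ i) (hwZ i₂)).eq, mul_inv_rev]
    have key : ((w ^ i₁) ^ i)⁻¹ * (x ^ s) ^ i ∈ S := by
      rw [← inv_pow, ← ((hcenZ _ (x ^ s) (hwZ i₁)).inv_left).mul_pow]
      exact pow_mem hsx i
    have hc3 : Commute ((w ^ i₁) ^ i)⁻¹ (y ^ s) := ((hcenZ _ _ (hwZ i₁)).pow_left i).inv_left
    have hc4 : Commute ((w ^ i₁) ^ i)⁻¹ (w ^ i₂)⁻¹ :=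
      (((hcenZ _ _ (hwZ i₁)).pow_left i).inv_left)
    have := mul_mem hsy key
    convert this using 1
    simp only [mul_assoc]
    rw [← mul_assoc ((w ^ i₁) ^ i)⁻¹ (y ^ s), hc3.eq, mul_assoc]
  -- no odd primes
  obtain ⟨P, hP, hexp⟩ := exists_exp (Z := Z) hZL
  have hexp' : ∀ l : (Soc Z), l ^ (∏ q ∈ P, q) ∈ Z' := hexp
  have hnoodd : ∀ s : ℕ, s.Prime → Odd s → ∀ x ∈ R, x ^ s ∈ D → x ∈ D := by
    intro s hs hodd x hx hxs
    by_contra hxD
    obtain ⟨y, hy, hc⟩ := hexists x hx hxD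
    set c := form ι x y with hcdef
    have hcs : c ^ s = 1 := by
      rw [hcdef, ← form_pow_left, form_swap, horth y hy _ hxs, inv_one]
    have hord : orderOf c = s := by
      haveI := Fact.mk hs
      exact orderOf_eq_prime hcs hc
    have hsz : s ∣ Nat.card Z := by
      rw [← hord]
      have : c ∈ ι.range := ⟨⟨_, socle_comm (Subgroup.commutator_mem_commutator x.2 y.2)⟩, rfl⟩
      rw [← Subgroup.orderOf_mk c this]
      exact (_root_.orderOf_dvd_natCard _) |>.trans (dvd_of_eq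
        (Nat.card_congr (MonoidHom.ofInjective hι).toEquiv).symm)
    have hcm : c ^ (∏ q ∈ P, q) = 1 := by
      rw [hcdef, ← form_pow_right]; exact form_of_mem hι _ _ (hexp' y)
    have hsP : s ∈ P := by
      have h1 : s ∣ ∏ q ∈ P, q := hord ▸ orderOf_dvd_of_pow_eq_one hcm
      obtain ⟨q, hq, hsq⟩ := (Nat.Prime.prime hs).exists_mem_finset_dvd h1
      exact ((Nat.prime_dvd_prime_iff_eq hs (hP q hq)).1 hsq) ▸ hq
    set k := ∏ q ∈ P.erase s, q
    have hk : ¬ s ∣ k := fun h => by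
      obtain ⟨q, hq, hsq⟩ := (Nat.Prime.prime hs).exists_mem_finset_dvd h
      exact (Finset.ne_of_mem_erase hq) ((Nat.prime_dvd_prime_iff_eq hs (hP q (Finset.mem_of_mem_erase hq))).1 hsq).symm
    have hy' : (y ^ k) ^ s ∈ D := by
      rw [← pow_mul, mul_comm, Finset.mul_prod_erase P (fun q => q) hsP]
      exact Subgroup.mem_sup_left (hexp' y)
    obtain ⟨i, hi⟩ := hline x hx (y ^ k) (pow_mem hy k) hxD s hs hsz hxs hy' (Or.inl hodd)
    have h1 := horth x hx _ hi
    rw [form_mul_right, form_pow_right, form_pow_right, (form_comm hι x x).2 rfl, one_pow, mul_one,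
      ← hcdef] at h1
    exact hk (hord ▸ orderOf_dvd_of_pow_eq_one h1)
  have hsq : ∀ y ∈ R, y ^ 2 ∈ D := by
    have hodd : ∀ k : ℕ, Odd k → ∀ x ∈ R, x ^ k ∈ D → x ∈ D := by
      intro k
      induction k using Nat.strong_induction_on with
      | _ k ih =>
      intro hk x hx hxk
      by_cases h1 : k = 1
      · rwa [h1, pow_one] at hxk
      have hs := Nat.minFac_prime h1
      obtain ⟨t, ht⟩ := Nat.minFac_dvd k
      have hk0 : 0 < k := hk.pos
      have hto : Odd t := (Nat.odd_mul.1 (ht ▸ hk)).2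
      have hso : Odd k.minFac := (Nat.odd_mul.1 (ht ▸ hk)).1
      refine hnoodd _ hs hso x hx (ih t ?_ hto _ (pow_mem hx _) (by rw [← pow_mul, ← ht]; exact hxk))
      rw [ht]
      exact lt_mul_of_one_lt_left hto.pos hs.one_lt
    intro y hy
    refine hodd (∏ q ∈ P.erase 2, q) ?_ _ (pow_mem hy 2) ?_
    · rw [Nat.odd_iff, ← Nat.two_dvd_ne_zero]
      intro h
      obtain ⟨q, hq, h2q⟩ := (Nat.Prime.prime Nat.prime_two).exists_mem_finset_dvd h
      exact (Finset.ne_of_mem_erase hq)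
        ((Nat.prime_dvd_prime_iff_eq Nat.prime_two (hP q (Finset.mem_of_mem_erase hq))).1 h2q).symm
    · obtain ⟨t, ht⟩ : (∏ q ∈ P, q) ∣ 2 * ∏ q ∈ P.erase 2, q := by
        by_cases h : 2 ∈ P
        · rw [Finset.mul_prod_erase P (fun q => q) h]
        · rw [Finset.erase_eq_of_notMem h]; exact dvd_mul_left _ _
      rw [← pow_mul, ht, pow_mul]
      exact pow_mem (Subgroup.mem_sup_left (hexp' y)) t
  by_cases hRD : R ≤ D
  · exact Or.inl (le_antisymm hRD hDR)
  right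
  obtain ⟨x, hx, hxD⟩ := SetLike.not_le_iff_exists.1 hRD
  obtain ⟨y, hy, hc⟩ := hexists x hx hxD
  refine ⟨?_, x, hx, y, hy, hc⟩
  set c := form ι x y with hcdef
  have hsign : ∀ p ∈ R, ∀ q ∈ R, form ι p q = 1 ∨ form ι p q = -1 := by
    intro p hp q hq
    have h : form ι p q ^ 2 = 1 := by
      rw [← form_pow_left, form_swap, horth q hq _ (hsq p hp), inv_one]
    have h2 : ((form ι p q : Kˣ) : K) ^ 2 = 1 := by
      rw [← Units.val_pow_eq_pow_val, h, Units.val_one]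
    rcases sq_eq_one_iff.1 h2 with h3 | h3
    · exact Or.inl (Units.ext h3)
    · exact Or.inr (Units.ext (by rw [h3, Units.val_neg, Units.val_one]))
  have hc1 : c = -1 := (hsign x hx y hy).resolve_left hc
  have h2z : 2 ∣ Nat.card Z := by
    haveI := Fact.mk Nat.prime_two
    have hord : orderOf c = 2 := orderOf_eq_prime (by rw [hc1, neg_one_sq]) hc
    have : c ∈ ι.range := ⟨⟨_, socle_comm (Subgroup.commutator_mem_commutator x.2 y.2)⟩, rfl⟩
    rw [← hord, ← Subgroup.orderOf_mk c this]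
    exact (_root_.orderOf_dvd_natCard _) |>.trans (dvd_of_eq
      (Nat.card_congr (MonoidHom.ofInjective hι).toEquiv).symm)
  have hyx : form ι y x = -1 := by rw [form_swap, ← hcdef, hc1]; simp
  have hxx : form ι x x = 1 := (form_comm hι x x).2 rfl
  have hyy : form ι y y = 1 := (form_comm hι y y).2 rfl
  let f : Fin 2 × Fin 2 × D → R := fun p =>
    ⟨x ^ (p.1 : ℕ) * y ^ (p.2.1 : ℕ) * p.2.2, mul_mem (mul_mem (pow_mem hx _) (pow_mem hy _)) (hDR p.2.2.2)⟩
  have hneg : ∀ a b : Fin 2, (-1 : Kˣ) ^ (a : ℕ) = (-1 : Kˣ) ^ (b : ℕ) → a = b := by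
    have hne1 : (-1 : Kˣ) ≠ 1 := hc1 ▸ hc
    intro a b
    fin_cases a <;> fin_cases b <;> simp [hne1, hne1.symm]
  have hf : Function.Bijective f := by
    refine ⟨?_, ?_⟩
    · rintro ⟨a, b, d⟩ ⟨a', b', d'⟩ he
      have he' : x ^ (a : ℕ) * y ^ (b : ℕ) * d = x ^ (a' : ℕ) * y ^ (b' : ℕ) * d' := congrArg Subtype.val he
      have e1 := congrArg (form ι y) he'
      have e2 := congrArg (form ι x) he'
      simp only [form_mul_right, form_pow_right, hyx, hyy, hxx, ← hcdef, hc1, one_pow, one_mul, mul_one,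
        horth y hy _ d.2, horth y hy _ d'.2, horth x hx _ d.2, horth x hx _ d'.2] at e1 e2
      obtain rfl := hneg _ _ e1
      obtain rfl := hneg _ _ e2
      exact Prod.ext rfl (Prod.ext rfl (Subtype.ext (mul_left_cancel he')))
    · rintro ⟨q, hq⟩
      obtain ⟨a, b, hab⟩ : ∃ a b : Fin 2, form ι x (q * (x ^ (a : ℕ) * y ^ (b : ℕ))) = 1 ∧
          form ι y (q * (x ^ (a : ℕ) * y ^ (b : ℕ))) = 1 := by
        rcases hsign x hx q hq with h1 | h1 <;> rcases hsign y hy q hq with h2 | h2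
        · exact ⟨0, 0, by simp [h1], by simp [h2]⟩
        · exact ⟨1, 0, by simp [form_mul_right, h1, hxx], by simp [form_mul_right, h2, hyx]⟩
        · exact ⟨0, 1, by simp [form_mul_right, h1, ← hcdef, hc1], by simp [form_mul_right, h2, hyy]⟩
        · exact ⟨1, 1, by simp [form_mul_right, h1, hxx, ← hcdef, hc1],
            by simp [form_mul_right, h2, hyx, hyy]⟩
      set q' := q * (x ^ (a : ℕ) * y ^ (b : ℕ)) with hq'
      have hq'R : q' ∈ R := mul_mem hq (mul_mem (pow_mem hx _) (pow_mem hy _))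
      obtain ⟨i, hi⟩ := hline x hx q' hq'R hxD 2 Nat.prime_two h2z (hsq x hx) (hsq q' hq'R)
        (Or.inr hab.1)
      have h3 : form ι y (q' * x ^ i) = 1 := horth y hy _ hi
      rw [form_mul_right, hab.2, one_mul, form_pow_right, hyx] at h3
      have hxi : x ^ i ∈ D := by
        obtain ⟨t, rfl⟩ : 2 ∣ i := by
          haveI := Fact.mk Nat.prime_two
          have hord : orderOf (-1 : Kˣ) = 2 := orderOf_eq_prime neg_one_sq (hc1 ▸ hc)
          exact hord ▸ orderOf_dvd_of_pow_eq_one h3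
        rw [pow_mul]; exact pow_mem (hsq x hx) t
      have hq'D : q' ∈ D := by
        have := mul_mem hi (inv_mem hxi)
        rwa [mul_inv_cancel_right] at this
      -- bring the exponents back to the front
      have hcomD : ∀ m ∈ R, ∀ d ∈ D, m * d = d * m := fun m hm d hd => (form_comm hι m d).1 (horth m hm d hd)
      have hx2 : ∀ m ∈ R, ∀ e : Fin 2, (m ^ (e : ℕ))⁻¹ * (m ^ (e : ℕ))⁻¹ ∈ D := fun m hm e => by
        have := pow_mem (inv_mem (hsq m hm)) (e : ℕ)
        rwa [← inv_pow, ← pow_mul, mul_comm, pow_mul, pow_two, inv_pow] at this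
      set P₁ := x ^ (a : ℕ) with hP₁
      set P₂ := y ^ (b : ℕ) with hP₂
      obtain ⟨d, hd, hqd⟩ : ∃ d ∈ D, q = P₁ * P₂ * d := by
        refine ⟨P₂⁻¹ * P₁⁻¹ * q, ?_, by group⟩
        have hq2 : q = q' * P₂⁻¹ * P₁⁻¹ := by rw [hq']; group
        rw [hq2]
        have hPR : P₂⁻¹ * P₁⁻¹ ∈ R := mul_mem (inv_mem (pow_mem hy _)) (inv_mem (pow_mem hx _))
        have e : P₂⁻¹ * P₁⁻¹ * (q' * P₂⁻¹ * P₁⁻¹) = q' * (P₂⁻¹ * P₁⁻¹ * (P₂⁻¹ * P₁⁻¹)) := by
          calc P₂⁻¹ * P₁⁻¹ * (q' * P₂⁻¹ * P₁⁻¹) = (P₂⁻¹ * P₁⁻¹ * q') * (P₂⁻¹ * P₁⁻¹) := by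
                simp only [mul_assoc]
            _ = (q' * (P₂⁻¹ * P₁⁻¹)) * (P₂⁻¹ * P₁⁻¹) := by rw [hcomD _ hPR _ hq'D]
            _ = _ := by simp only [mul_assoc]
        rw [e, ← pow_two]
        exact mul_mem hq'D (hsq _ hPR)
      exact ⟨(a, b, ⟨d, hd⟩), Subtype.ext hqd.symm⟩
  rw [← Nat.card_eq_of_bijective f hf, Nat.card_prod, Nat.card_prod, Nat.card_fin, ← mul_assoc]
  norm_num

end Cfsg.Lib.SolvBase
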